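import Groth.Agent.RelQuot.K928.K0Calc
import Mathlib.AlgebraicGeometry.SpreadingOut
import Mathlib.AlgebraicGeometry.Morphisms.Separated
import Mathlib.AlgebraicGeometry.FunctionField

/-!
# Classes in the Grothendieck ring and bijections on field-valued points

`cl_eq_sum_of_points`: if every field-valued point of a Noetherian `Y` lifts to exactly one of the
finitely many `X i ⟶ Y` (separated, of finite type) in exactly one way, then `[Y] = ∑ [X i]`.
-/

set_option autoImplicit false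
universe u

open CategoryTheory CategoryTheory.Limits AlgebraicGeometry TopologicalSpace

namespace K940.K0Bij

open K928.K0Calc

/-- the point of a scheme as a morphism from the spectrum of a field (in the form used here). -/
theorem exists_point {X : Scheme.{u}} (x : X) : ∃ (K : Type u) (_ : Field K) (a : Spec (CommRingCat.of K) ⟶ X),
    x ∈ Set.range a :=
  ⟨X.residueField x, inferInstance, X.fromSpecResidueField x, by
    rw [Scheme.range_fromSpecResidueField]; rfl⟩

/-- **Additivity of the class along a partition of the field-valued points.** -/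
theorem cl_eq_sum_of_points {S Y : Scheme.{u}} [NoetherianSpace Y] (p : Y ⟶ S)
    [LocallyOfFiniteType p] [QuasiCompact p] {ι : Type*} [Fintype ι] (X : ι → Scheme.{u})
    (f : ∀ i, X i ⟶ Y) [∀ i, LocallyOfFiniteType (f i)] [∀ i, QuasiCompact (f i)]
    [∀ i, IsSeparated (f i)]
    (h : ∀ (K : Type u) [Field K] (y : Spec (CommRingCat.of K) ⟶ Y),
      ∃! q : Σ i, (Spec (CommRingCat.of K) ⟶ X i), q.2 ≫ f q.1 = y) :
    K0Var.cl p = ∑ i, K0Var.cl (f i ≫ p) := by
  classical
  have hA : IsAdd (fun T (t : T ⟶ Y) => relCl (𝟙 Y) p t) := isAdd_relCl (𝟙 Y) p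
  have hB : IsAdd (fun T (t : T ⟶ Y) => ∑ i, relCl (f i) p t) :=
    IsAdd.sum Finset.univ (fun i _ => isAdd_relCl (f i) p)
  have key := hA.ext hB (i := 𝟙 Y) ?_
  · have h0 : K0Var.cl p = relCl (𝟙 Y) p (𝟙 Y) := by
      rw [relCl_id]
      exact K0Var.cl_congr _ _ (Iso.refl _) (by simp)
    rw [h0, key]
    exact Finset.sum_congr rfl fun i _ => relCl_id (f i) p
  intro Z z _ _
  have hZn : NoetherianSpace Z := noetherian_of_isClosedImmersion z
  -- the generic point
  obtain ⟨⟨i₀, x⟩, hx, -⟩ := h Z.functionField (Z.fromSpecStalk (genericPoint Z) ≫ z)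
  obtain ⟨U, hU, g, hg1, hg2⟩ := spread_out_of_isGermInjective' z (f i₀) (x := genericPoint Z) x hx
  refine ⟨U, ⟨_, hU⟩, fun U' hU' => ?_⟩
  have hft : LocallyOfFiniteType (U'.ι ≫ z) := inferInstance
  have hUn : NoetherianSpace U'.toScheme := U'.ι.isOpenEmbedding.isInducing.noetherianSpace
  have hqc : QuasiCompact U'.ι := ⟨fun V _ _ => NoetherianSpace.isCompact _⟩
  obtain ⟨t, ht⟩ : ∃ t, t = U'.ι ≫ z := ⟨_, rfl⟩
  have hft' : LocallyOfFiniteType t := by rw [ht]; infer_instance
  have hqc' : QuasiCompact t := by rw [ht]; infer_instance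
  obtain ⟨g', hg'⟩ : ∃ g' : U'.toScheme ⟶ X i₀, g' ≫ f i₀ = t :=
    ⟨Z.homOfLE hU' ≫ g, by rw [Category.assoc, hg2, ht, Scheme.homOfLE_ι_assoc]⟩
  -- points of the fibre products
  have hg'' : g' ≫ f i₀ = 𝟙 U'.toScheme ≫ t := by rw [hg', Category.id_comp]
  have hpt : ∀ (i : ι) (w : (pullback (f i) t : Scheme.{u})), ∃ (K : Type u) (_ : Field K)
      (a : Spec (CommRingCat.of K) ⟶ pullback (f i) t), w ∈ Set.range a ∧
      (⟨i, a ≫ pullback.fst (f i) t⟩ : Σ i, (Spec (CommRingCat.of K) ⟶ X i)) =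
        ⟨i₀, a ≫ pullback.snd (f i) t ≫ g'⟩ := by
    intro i w
    obtain ⟨K, _, a, hw'⟩ := exists_point w
    refine ⟨K, inferInstance, a, hw', ?_⟩
    have h1 : (a ≫ pullback.fst (f i) t) ≫ f i = a ≫ pullback.snd (f i) t ≫ t := by
      rw [Category.assoc, pullback.condition]
    have h2 : (a ≫ pullback.snd (f i) t ≫ g') ≫ f i₀ = a ≫ pullback.snd (f i) t ≫ t := by
      rw [Category.assoc, Category.assoc, hg']
    exact (h K (a ≫ pullback.snd (f i) t ≫ t)).unique (y₁ := ⟨i, a ≫ pullback.fst (f i) t⟩)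
      (y₂ := ⟨i₀, a ≫ pullback.snd (f i) t ≫ g'⟩) h1 h2
  have hsurj : Function.Surjective (pullback.lift (f := f i₀) (g := t) g' (𝟙 _) hg'') := by
    intro w
    obtain ⟨K, _, a, ⟨w', hw'⟩, h3⟩ := hpt i₀ w
    have h4 : a ≫ pullback.fst (f i₀) t = a ≫ pullback.snd (f i₀) t ≫ g' :=
      eq_of_heq (Sigma.mk.inj h3).2
    refine ⟨(a ≫ pullback.snd (f i₀) t) w', ?_⟩
    rw [← hw', ← Scheme.Hom.comp_apply]
    have h5 : (a ≫ pullback.snd (f i₀) t) ≫ pullback.lift (f := f i₀) (g := t) g' (𝟙 _) hg'' = a := by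
      apply pullback.hom_ext
      · rw [Category.assoc, Category.assoc, pullback.lift_fst]
        exact h4.symm
      · rw [Category.assoc, Category.assoc, pullback.lift_snd, Category.comp_id]
    rw [h5]
  have hcl : IsClosedImmersion (pullback.lift (f := f i₀) (g := t) g' (𝟙 _) hg'') := by
    have h6 : pullback.lift (f := f i₀) (g := t) g' (𝟙 _) hg'' ≫ pullback.snd (f i₀) t = 𝟙 _ :=
      pullback.lift_snd _ _ _
    have : IsClosedImmersion (pullback.lift (f := f i₀) (g := t) g' (𝟙 _) hg'' ≫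
      pullback.snd (f i₀) t) := by rw [h6]; infer_instance
    exact IsClosedImmersion.of_comp _ (pullback.snd (f i₀) t)
  change relCl (𝟙 Y) p (U'.ι ≫ z) = ∑ i, relCl (f i) p (U'.ι ≫ z)
  rw [← ht, relCl_self, Finset.sum_eq_single i₀]
  · rw [relCl, clD_eq]
    symm
    refine cl_eq_of_surjective_closed _ _ hsurj _ ?_
    rw [pullback.lift_snd_assoc, Category.id_comp]
  · intro i _ hi
    have : IsEmpty (pullback (f i) t : Scheme.{u}) := ⟨fun w => by
      obtain ⟨K, _, a, -, h3⟩ := hpt i w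
      exact hi (congrArg Sigma.fst h3)⟩
    rw [relCl, clD_eq, cl_eq_zero]
  · intro hi
    exact absurd (Finset.mem_univ _) hi

end K940.K0Bij
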