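import Groth.Agent.RelQuot.K928.K0Calc
import Groth.Agent.HilbZeta.K940.K0Bij
import Groth.Agent.RelQuot.K928.Fibration
import Mathlib.RingTheory.PolynomialAlgebra
import Mathlib.RingTheory.FiniteType
import Mathlib.Algebra.MvPolynomial.Equiv

/-!
# Classes of affine schemes in the Grothendieck ring over a field
-/

set_option autoImplicit false
universe u

open CategoryTheory CategoryTheory.Limits AlgebraicGeometry TopologicalSpace

namespace K940.ClAff

open K928.K0Calc

variable (k : Type u) [Field k]

/-- the class of `Spec R` over `Spec k`. -/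
noncomputable def cA (R : Type u) [CommRing R] [Algebra k R] : K0Var.K (Spec (CommRingCat.of k)) :=
  clD (Spec.map (CommRingCat.ofHom (algebraMap k R)))

theorem lft_of_finiteType {R : Type u} [CommRing R] (κ : k →+* R) (h : κ.FiniteType) :
    LocallyOfFiniteType (Spec.map (CommRingCat.ofHom κ)) :=
  (HasRingHomProperty.Spec_iff (P := @LocallyOfFiniteType)).mpr h

variable {k}

theorem cA_eq {R : Type u} [CommRing R] [Algebra k R]
    [LocallyOfFiniteType (Spec.map (CommRingCat.ofHom (algebraMap k R)))] :
    cA k R = K0Var.cl (Spec.map (CommRingCat.ofHom (algebraMap k R))) := by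
  rw [cA, clD_eq]

theorem finiteType_algebraMap {R : Type u} [CommRing R] [Algebra k R] [Algebra.FiniteType k R] :
    (algebraMap k R).FiniteType := RingHom.finiteType_algebraMap.mpr inferInstance

instance lft_alg {R : Type u} [CommRing R] [Algebra k R] [Algebra.FiniteType k R] :
    LocallyOfFiniteType (Spec.map (CommRingCat.ofHom (algebraMap k R))) :=
  lft_of_finiteType k _ finiteType_algebraMap

theorem cA_congr {R R' : Type u} [CommRing R] [Algebra k R] [CommRing R'] [Algebra k R']
    [Algebra.FiniteType k R] (e : R ≃ₐ[k] R') : cA k R = cA k R' := by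
  have : Algebra.FiniteType k R' := Algebra.FiniteType.equiv inferInstance e
  rw [cA_eq, cA_eq]
  refine K0Var.cl_congr _ _ (Scheme.Spec.mapIso e.symm.toRingEquiv.toCommRingCatIso.op) ?_
  change Spec.map _ ≫ Spec.map _ = _
  rw [← Spec.map_comp]
  congr 1
  ext r
  exact e.symm.commutes r

theorem cA_self : cA k k = 1 := by
  have : Algebra.FiniteType k k := inferInstance
  rw [cA_eq, ← K0Var.cl_one]
  refine K0Var.cl_congr _ _ (Iso.refl _) ?_
  rw [Iso.refl_hom, Category.id_comp]
  symm
  exact Spec.map_id _

theorem cA_zero {R : Type u} [CommRing R] [Algebra k R] [Subsingleton R] : cA k R = 0 := by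
  have : Algebra.FiniteType k R := ⟨⟨∅, by rw [eq_top_iff]; intro x _; rw [Subsingleton.elim x 0]; exact Subalgebra.zero_mem _⟩⟩
  rw [cA_eq]
  have : IsEmpty (Spec (CommRingCat.of R)) := ⟨fun p => p.2.one_notMem (by
    rw [Subsingleton.elim (1 : R) 0]; exact Submodule.zero_mem _)⟩
  exact cl_eq_zero _

theorem cA_mul_of_isPushout {R R' R'' : Type u} [CommRing R] [Algebra k R] [CommRing R'] [Algebra k R']
    [CommRing R''] [Algebra k R''] [Algebra R R''] [Algebra R' R''] [IsScalarTower k R R'']
    [IsScalarTower k R' R''] [Algebra.FiniteType k R] [Algebra.FiniteType k R']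
    [h : Algebra.IsPushout k R R' R''] : cA k R'' = cA k R * cA k R' := by
  have h1 := CommRingCat.isPushout_iff_isPushout.mpr h
  have h2 := isPullback_SpecMap_of_isPushout _ _ _ _ h1
  have e : Spec.map (CommRingCat.ofHom (algebraMap R R'')) ≫
      Spec.map (CommRingCat.ofHom (algebraMap k R)) =
      Spec.map (CommRingCat.ofHom (algebraMap k R'')) := by
    rw [← Spec.map_comp, ← CommRingCat.ofHom_comp, ← IsScalarTower.algebraMap_eq]
  have h3 : LocallyOfFiniteType (Spec.map (CommRingCat.ofHom (algebraMap R R''))) := by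
    exact MorphismProperty.of_isPullback h2.flip (lft_alg (k := k) (R := R'))
  have h4 : LocallyOfFiniteType (Spec.map (CommRingCat.ofHom (algebraMap k R''))) := by
    rw [← e]; infer_instance
  rw [cA_eq, cA_eq, cA_eq, ← cl_eq_mul_of_isPullback h2.flip]
  exact K0Var.cl_congr _ _ (Iso.refl _) (by rw [Iso.refl_hom, Category.id_comp, e])

theorem cA_L : cA k (Polynomial k) = K0Var.L (Spec (CommRingCat.of k)) := by
  rw [← cA_congr (MvPolynomial.uniqueAlgEquiv k PUnit.{u+1})]
  rw [cA_eq, K0Var.L]
  exact K0Var.cl_congr _ _ (AffineSpace.SpecIso PUnit.{u+1} (CommRingCat.of k)).symm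
    (AffineSpace.SpecIso_inv_over _)

attribute [local instance] Polynomial.algebra in
theorem cA_polynomial (R : Type u) [CommRing R] [Algebra k R] [Algebra.FiniteType k R] :
    cA k (Polynomial R) = cA k R * K0Var.L (Spec (CommRingCat.of k)) := by
  rw [← cA_L]
  exact cA_mul_of_isPushout

theorem cA_mvPolynomial (n : ℕ) :
    cA k (MvPolynomial (Fin n) k) = K0Var.L (Spec (CommRingCat.of k)) ^ n := by
  induction n with
  | zero =>
    rw [pow_zero, cA_congr (MvPolynomial.isEmptyAlgEquiv k (Fin 0)), cA_self]
  | succ n ih =>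
    rw [pow_succ, ← ih, ← cA_polynomial]
    exact cA_congr (MvPolynomial.finSuccEquiv k n)

theorem cA_mvPolynomial' (σ : Type) [Fintype σ] :
    cA k (MvPolynomial σ k) = K0Var.L (Spec (CommRingCat.of k)) ^ Fintype.card σ := by
  rw [← cA_mvPolynomial]
  exact cA_congr (MvPolynomial.renameEquiv k (Fintype.equivFin σ))

end K940.ClAff
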