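import Groth.Agent.HilbZeta.K940.FlagBas
import Mathlib.LinearAlgebra.Dimension.Finrank
import Mathlib.LinearAlgebra.FiniteDimensional.Lemmas
import Mathlib.Algebra.MvPolynomial.Eval

/-!
# Universal families over affine spaces and the classification of punctual quotients
-/

set_option autoImplicit false
universe u v w

namespace K940.HZFlag
open Polynomial

/-! ### linear algebra -/

section LinAlg
variable {K : Type u} [Field K] {Q : Type v} {Q' : Type w} [CommRing Q] [CommRing Q']

theorem finrank_of_bij {ι : Type*} [Fintype ι] [Algebra K Q] (v : ι → Q)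
    (h : Function.Bijective (fun b : ι → K => ∑ i, algebraMap K Q (b i) * v i)) :
    Module.finrank K Q = Fintype.card ι ∧ Module.Finite K Q := by
  have h1 : (fun b : ι → K => ∑ i, algebraMap K Q (b i) * v i) = Fintype.linearCombination K v := by
    funext b
    simp only [← Algebra.smul_def]
    rfl
  rw [h1] at h
  let e : (ι → K) ≃ₗ[K] Q := LinearEquiv.ofBijective _ h
  exact ⟨by rw [← e.finrank_eq, Module.finrank_fintype_fun_eq_card], Module.Finite.equiv e⟩

theorem card_eq_of_bij {ι ι' : Type*} [Fintype ι] [Fintype ι'] (β : K →+* Q) (β' : K →+* Q')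
    (ρ : Q →+* Q') (hρ : ρ.comp β = β') (hb : Function.Bijective ρ) (v : ι → Q) (v' : ι' → Q')
    (h : Function.Bijective (fun b : ι → K => ∑ i, β (b i) * v i))
    (h' : Function.Bijective (fun b : ι' → K => ∑ i, β' (b i) * v' i)) :
    Fintype.card ι = Fintype.card ι' := by
  let _ := β.toAlgebra
  let _ := β'.toAlgebra
  let ρ' : Q →ₐ[K] Q' := { ρ with commutes' := fun r => congr($(hρ) r) }
  have e : Q ≃ₗ[K] Q' := LinearEquiv.ofBijective ρ'.toLinearMap hb
  rw [← (finrank_of_bij (K := K) v h).1, ← (finrank_of_bij (K := K) v' h').1, e.finrank_eq]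

theorem injective_of_card {ι ι' : Type*} [Fintype ι] [Fintype ι'] (β : K →+* Q) (β' : K →+* Q')
    (ρ : Q →+* Q') (hρ : ρ.comp β = β') (hs : Function.Surjective ρ) (v : ι → Q) (v' : ι' → Q')
    (h : Function.Bijective (fun b : ι → K => ∑ i, β (b i) * v i))
    (h' : Function.Bijective (fun b : ι' → K => ∑ i, β' (b i) * v' i))
    (hc : Fintype.card ι = Fintype.card ι') : Function.Injective ρ := by
  let _ := β.toAlgebra
  let _ := β'.toAlgebra
  let ρ' : Q →ₐ[K] Q' := { ρ with commutes' := fun r => congr($(hρ) r) }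
  obtain ⟨h1, h2⟩ := finrank_of_bij (K := K) v h
  obtain ⟨h3, h4⟩ := finrank_of_bij (K := K) v' h'
  have := (LinearMap.injective_iff_surjective_of_finrank_eq_finrank (f := ρ'.toLinearMap)
    (by rw [h1, h3, hc])).mpr hs
  exact this

theorem ker_eq_of_card {S : Type*} [CommRing S] {ι ι' : Type*} [Fintype ι] [Fintype ι']
    (β : K →+* S) (Φ : S →+* Q') (hΦ : Function.Surjective Φ) (β' : K →+* Q')
    (hβ : Φ.comp β = β') (a : Ideal S)
    (ha : ∀ f ∈ a, Φ f = 0) (v : ι → S ⧸ a) (v' : ι' → Q')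
    (h : Function.Bijective (fun b : ι → K => ∑ i, (Ideal.Quotient.mk a).comp β (b i) * v i))
    (h' : Function.Bijective (fun b : ι' → K => ∑ i, β' (b i) * v' i))
    (hc : Fintype.card ι = Fintype.card ι') : a = RingHom.ker Φ := by
  have hinj := injective_of_card ((Ideal.Quotient.mk a).comp β) β' (Ideal.Quotient.lift a Φ ha)
    (by rw [← hβ]; rfl) (Ideal.Quotient.lift_surjective_of_surjective _ _ hΦ) v v' h h' hc
  refine le_antisymm ha fun f hf => ?_
  rw [← Ideal.Quotient.eq_zero_iff_mem]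
  apply hinj
  rw [map_zero, Ideal.Quotient.lift_mk]
  exact hf

theorem card_of_ker_eq {S : Type*} [CommRing S] {ι ι' : Type*} [Fintype ι] [Fintype ι']
    (β : K →+* S) (Φ : S →+* Q') (hΦ : Function.Surjective Φ) (β' : K →+* Q')
    (hβ : Φ.comp β = β') (a : Ideal S)
    (ha : a = RingHom.ker Φ) (v : ι → S ⧸ a) (v' : ι' → Q')
    (h : Function.Bijective (fun b : ι → K => ∑ i, (Ideal.Quotient.mk a).comp β (b i) * v i))
    (h' : Function.Bijective (fun b : ι' → K => ∑ i, β' (b i) * v' i)) :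
    Fintype.card ι = Fintype.card ι' := by
  refine card_eq_of_bij ((Ideal.Quotient.mk a).comp β) β' (Ideal.Quotient.lift a Φ ha.le)
    (by rw [← hβ]; rfl) ⟨?_, Ideal.Quotient.lift_surjective_of_surjective _ _ hΦ⟩ v v' h h'
  rw [injective_iff_map_eq_zero]
  intro z hz
  obtain ⟨f, rfl⟩ := Ideal.Quotient.mk_surjective z
  rw [Ideal.Quotient.lift_mk] at hz
  rw [Ideal.Quotient.eq_zero_iff_mem, ha]
  exact hz

end LinAlg

/-! ### base change -/

section BC
variable {R : Type u} {R' : Type v} [CommRing R] [CommRing R'] (φ : R →+* R') (c : ℕ → ℕ)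
  (V : ℕ → ℕ → R[X])

/-- base change of bivariate polynomials -/
noncomputable abbrev mapXY : R[X][X] →+* R'[X][X] := mapRingHom (mapRingHom φ)

theorem mapXY_C (p : R[X]) : mapXY φ (C p) = C (p.map φ) := by
  rw [coe_mapRingHom, map_C]; rfl

theorem mapXY_X : mapXY φ X = X := by rw [coe_mapRingHom, map_X]

theorem mapXY_g (m : ℕ) : mapXY φ (g c V m) = g c (fun i j => (V i j).map φ) m := by
  induction m using Nat.strong_induction_on with
  | _ m ih =>
    cases m with
    | zero => rw [g_zero, g_zero, map_one]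
    | succ m =>
      rw [g_succ, g_succ, map_add, map_mul, map_sum, ih m (by omega), mapXY_C, Polynomial.map_pow,
        Polynomial.map_X]
      congr 1
      refine Finset.sum_congr rfl fun j hj => ?_
      have hj := Finset.mem_range.mp hj
      rw [map_mul, map_mul, map_pow, mapXY_C, mapXY_X, ih j (by omega)]

theorem mapXY_mem (m : ℕ) : ∀ f ∈ I c V m, mapXY φ f ∈ I c (fun i j => (V i j).map φ) m := by
  induction m with
  | zero => intro f _; exact Submodule.mem_top
  | succ m ih =>
    intro f hf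
    obtain ⟨p, f', hf', rfl⟩ := (mem_I_succ' c V).mp hf
    rw [map_add, map_mul, map_mul, mapXY_g, mapXY_X, mapXY_C]
    exact (mem_I_succ' c _).mpr ⟨_, _, ih _ hf', rfl⟩

/-- generators of `I c V m` -/
theorem I_le_iff (J : Ideal R[X][X]) (m : ℕ) :
    I c V m ≤ J ↔ ∀ j ≤ m, X ^ (m - j) * g c V j ∈ J := by
  constructor
  · intro h j hj
    exact h (X_pow_mul_g_mem c V hj)
  · intro h
    suffices H : ∀ k ≤ m, ∀ f ∈ I c V k, X ^ (m - k) * f ∈ J by
      intro f hf
      have := H m le_rfl f hf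
      rwa [Nat.sub_self, pow_zero, one_mul] at this
    intro k
    induction k with
    | zero =>
      intro _ f _
      have h0 := h 0 (Nat.zero_le _)
      rw [g_zero, mul_one] at h0
      exact J.mul_mem_right _ h0
    | succ k ih =>
      intro hk f hf
      obtain ⟨p, f', hf', rfl⟩ := (mem_I_succ' c V).mp hf
      rw [mul_add]
      refine J.add_mem ?_ ?_
      · rw [mul_left_comm]
        exact J.mul_mem_left _ (h (k + 1) hk)
      · rw [← mul_assoc, ← pow_succ]
        have : m - (k + 1) + 1 = m - k := by omega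
        rw [this]
        exact ih (by omega) f' hf'

end BC

/-! ### parameters -/

section Par
variable (c : ℕ → ℕ) (n : ℕ)

/-- index set of the parameters -/
abbrev Par : Type := Σ i : Fin n, Σ j : Fin i, Fin (c j)

variable {R : Type u} [CommRing R]

/-- the data `V` with the given coefficients -/
noncomputable def Vof (v : Par c n → R) (i j : ℕ) : R[X] :=
  if h : i < n ∧ j < i then ∑ e : Fin (c j), C (v ⟨⟨i, h.1⟩, ⟨j, h.2⟩, e⟩) * X ^ (e : ℕ) else 0

theorem degree_Vof (v : Par c n → R) (i j : ℕ) : (Vof c n v i j).degree < (c j : ℕ) := by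
  rw [Vof]
  split_ifs with h
  · exact degree_sum_fin_lt _
  · rw [degree_zero]; exact WithBot.bot_lt_coe _

theorem coeff_Vof (v : Par c n → R) (p : Par c n) :
    (Vof c n v p.1 p.2.1).coeff p.2.2 = v p := by
  obtain ⟨i, j, e⟩ := p
  dsimp only
  rw [Vof, dif_pos ⟨i.2, j.2⟩, finsetSum_coeff, Finset.sum_eq_single e]
  · rw [coeff_C_mul, coeff_X_pow_self, mul_one]
  · intro e' _ he'
    rw [coeff_C_mul, coeff_X_pow, if_neg (fun h => he' (Fin.ext h.symm)), mul_zero]
  · intro h; exact absurd (Finset.mem_univ _) h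

theorem Vof_coeff (V : ℕ → ℕ → R[X]) (hV : ∀ i j, (V i j).degree < (c j : ℕ)) (i j : ℕ)
    (hi : i < n) (hj : j < i) : Vof c n (fun p => (V p.1 p.2.1).coeff p.2.2) i j = V i j := by
  ext e
  by_cases he : e < c j
  · exact coeff_Vof c n (fun p => (V p.1 p.2.1).coeff p.2.2) ⟨⟨i, hi⟩, ⟨j, hj⟩, ⟨e, he⟩⟩
  · rw [coeff_eq_zero_of_degree_lt (lt_of_lt_of_le (degree_Vof c n _ i j)
        (by exact_mod_cast not_lt.mp he)),
      coeff_eq_zero_of_degree_lt (lt_of_lt_of_le (hV i j) (by exact_mod_cast not_lt.mp he))]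

theorem map_Vof {R' : Type v} [CommRing R'] (φ : R →+* R') (v : Par c n → R) (i j : ℕ) :
    (Vof c n v i j).map φ = Vof c n (fun p => φ (v p)) i j := by
  rw [Vof, Vof]
  split_ifs with h
  · rw [Polynomial.map_sum]
    refine Finset.sum_congr rfl fun e _ => ?_
    rw [Polynomial.map_mul, Polynomial.map_pow, Polynomial.map_C, Polynomial.map_X]
  · rw [Polynomial.map_zero]

end Par

/-! ### the index set of the strata -/

section Sig

/-- extension by zero -/
def ext0 {n d : ℕ} (c : Fin n → Fin (d + 1)) (j : ℕ) : ℕ := if h : j < n then (c ⟨j, h⟩ : ℕ) else 0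

theorem ext0_lt {n d : ℕ} (c : Fin n → Fin (d + 1)) {j : ℕ} (h : j < n) : ext0 c j = c ⟨j, h⟩ :=
  dif_pos h

/-- index set of the strata: `c : Fin n → ℕ` with `∑ (n - j) c_j = d`. -/
def Sg (n d : ℕ) : Type := {c : Fin n → Fin (d + 1) // ∑ j : Fin n, (n - j) * (c j : ℕ) = d}

instance (n d : ℕ) : Fintype (Sg n d) :=
  inferInstanceAs (Fintype {c : Fin n → Fin (d + 1) // ∑ j : Fin n, (n - j) * (c j : ℕ) = d})

theorem sum_b (c : ℕ → ℕ) (n : ℕ) : ∑ l ∈ Finset.range n, b c (n - l) =
    ∑ j ∈ Finset.range n, (n - j) * c j := by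
  induction n with
  | zero => rfl
  | succ n ih =>
    rw [Finset.sum_range_succ', Nat.sub_zero]
    have h1 : ∀ l, n + 1 - (l + 1) = n - l := fun l => by omega
    simp only [h1]
    rw [ih, b, Finset.sum_range_succ c, Finset.sum_range_succ, ← add_assoc, ← Finset.sum_add_distrib]
    congr 1
    · refine Finset.sum_congr rfl fun j hj => ?_
      have hj := Finset.mem_range.mp hj
      have : n + 1 - j = n - j + 1 := by omega
      rw [this, add_one_mul]
    · rw [Nat.add_sub_cancel_left, one_mul]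

theorem card_Idx (c : ℕ → ℕ) (n : ℕ) :
    Fintype.card (Idx c n) = ∑ j ∈ Finset.range n, (n - j) * c j := by
  rw [Fintype.card_sigma, ← sum_b, Finset.sum_range]
  simp only [Fintype.card_fin]

theorem card_Idx_Sg {n d : ℕ} (c : Sg n d) : Fintype.card (Idx (ext0 c.1) n) = d := by
  rw [card_Idx, Finset.sum_range]
  conv_rhs => rw [← c.2]
  refine Finset.sum_congr rfl fun j _ => ?_
  rw [ext0_lt c.1 j.2]

/-- the data as an element of `Sg`. -/
theorem exists_Sg {n d : ℕ} (c : ℕ → ℕ) (h : ∑ j ∈ Finset.range n, (n - j) * c j = d) :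
    ∃ c' : Sg n d, ∀ j < n, ext0 c'.1 j = c j := by
  have h1 : ∀ j < n, c j < d + 1 := by
    intro j hj
    rw [← h, Nat.lt_succ_iff]
    refine le_trans ?_ (Finset.single_le_sum (f := fun j => (n - j) * c j)
      (fun _ _ => Nat.zero_le _) (Finset.mem_range.mpr hj))
    exact Nat.le_mul_of_pos_left _ (by omega)
  refine ⟨⟨fun j => ⟨c j, h1 j j.2⟩, ?_⟩, fun j hj => ?_⟩
  · exact (Finset.sum_range (fun j => (n - j) * c j)).symm.trans h
  · rw [ext0_lt _ hj]

theorem card_Par (c : ℕ → ℕ) (n : ℕ) :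
    Fintype.card (Par c n) = ∑ j ∈ Finset.range n, (n - 1 - j) * c j := by
  rw [Fintype.card_sigma]
  have h1 : ∀ i : Fin n, Fintype.card (Σ j : Fin i, Fin (c j)) = b c i := by
    intro i
    rw [Fintype.card_sigma, b, Finset.sum_range]
    simp only [Fintype.card_fin]
  simp only [h1]
  rw [← Finset.sum_range (f := fun i => b c i)]
  cases n with
  | zero => rfl
  | succ n =>
    rw [Finset.sum_range_succ', Nat.add_sub_cancel]
    have h2 : b c 0 = 0 := rfl
    rw [h2, add_zero, ← Finset.sum_range_reflect, Finset.sum_range_succ, Nat.sub_self, zero_mul,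
      add_zero, ← sum_b]
    refine Finset.sum_congr rfl fun l hl => ?_
    have hl := Finset.mem_range.mp hl
    congr 1
    omega

end Sig

/-! ### classification of the quotients over a field -/

section Class

variable {K : Type u} [Field K] {Q' : Type v} [CommRing Q']

/-- evaluation `K[x][y] → Q'` -/
noncomputable def evXY {R : Type*} [CommRing R] (β' : R →+* Q') (x y : Q') : R[X][X] →+* Q' :=
  eval₂RingHom (eval₂RingHom β' x) y

theorem evXY_C {R : Type*} [CommRing R] (β' : R →+* Q') (x y : Q') (p : R[X]) :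
    evXY β' x y (C p) = p.eval₂ β' x := by
  rw [evXY, coe_eval₂RingHom, eval₂_C, coe_eval₂RingHom]

theorem evXY_X {R : Type*} [CommRing R] (β' : R →+* Q') (x y : Q') : evXY β' x y X = y := by
  rw [evXY, coe_eval₂RingHom, eval₂_X]

theorem evXY_C_X {R : Type*} [CommRing R] (β' : R →+* Q') (x y : Q') :
    evXY β' x y (C X) = x := by
  rw [evXY_C, eval₂_X]

theorem evXY_C_C {R : Type*} [CommRing R] (β' : R →+* Q') (x y : Q') (r : R) :
    evXY β' x y (C (C r)) = β' r := by
  rw [evXY_C, eval₂_C]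

theorem ringHom_ext_XY {R : Type*} [CommRing R] {f g : R[X][X] →+* Q'}
    (h1 : ∀ r, f (C (C r)) = g (C (C r))) (h2 : f (C X) = g (C X)) (h3 : f X = g X) : f = g := by
  refine Polynomial.ringHom_ext' ?_ h3
  refine Polynomial.ringHom_ext' ?_ h2
  exact RingHom.ext h1

theorem evXY_mapXY {R : Type*} [CommRing R] {K : Type*} [CommRing K] (φ : R →+* K) (β' : K →+* Q')
    (x y : Q') : (evXY β' x y).comp (mapXY φ) = evXY (β'.comp φ) x y := by
  refine ringHom_ext_XY ?_ ?_ ?_
  · intro r
    rw [RingHom.comp_apply, mapXY_C, Polynomial.map_C, evXY_C_C, evXY_C_C]; rfl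
  · rw [RingHom.comp_apply, mapXY_C, Polynomial.map_X, evXY_C_X, evXY_C_X]
  · rw [RingHom.comp_apply, mapXY_X, evXY_X, evXY_X]

/-- **Classification**: a quotient `Q'` of `K[x][y]` of dimension `d` in which `x` is nilpotent and
`y^n = 0` is a member of exactly one of the families, at exactly one point. -/
theorem exists_unique_flag (n d : ℕ) (β' : K →+* Q') (x y : Q')
    (hs : Function.Surjective (evXY β' x y)) (u : Fin d → Q')
    (hu : Function.Bijective (fun b : Fin d → K => ∑ i, β' (b i) * u i))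
    (hx : IsNilpotent x) (hy : y ^ n = 0) :
    ∃! q : Σ c : Sg n d, (Par (ext0 c.1) n → K),
      ∀ f ∈ I (ext0 q.1.1) (Vof (ext0 q.1.1) n q.2) n, evXY β' x y f = 0 := by
  obtain ⟨N, hN⟩ := hx
  obtain ⟨c₀, V₀, hV₀, hJ⟩ := exists_eq n (RingHom.ker (evXY β' x y))
    (by rw [RingHom.mem_ker, map_pow, evXY_X, hy])
    ⟨N, by rw [RingHom.mem_ker, map_pow, evXY_C_X, hN]⟩
  have hcomp : (evXY β' x y).comp ((C : K[X] →+* K[X][X]).comp C) = β' := by
    ext r
    exact evXY_C_C β' x y r
  have hcard : Fintype.card (Idx c₀ n) = d := by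
    have := card_of_ker_eq ((C : K[X] →+* K[X][X]).comp C) (evXY β' x y) hs β' hcomp (I c₀ V₀ n)
      hJ.symm _ u (bijective_mon c₀ V₀ n) hu
    rw [this, Fintype.card_fin]
  -- any member through `Q'` has the same ideal
  have hmem : ∀ (c : Sg n d) (V : ℕ → ℕ → K[X]), (∀ f ∈ I (ext0 c.1) V n, evXY β' x y f = 0) →
      I (ext0 c.1) V n = I c₀ V₀ n := by
    intro c V h
    rw [← hJ]
    exact ker_eq_of_card ((C : K[X] →+* K[X][X]).comp C) (evXY β' x y) hs β' hcomp
      (I (ext0 c.1) V n) h _ u (bijective_mon (ext0 c.1) V n) hu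
      (by rw [card_Idx_Sg, Fintype.card_fin])
  -- existence
  rw [card_Idx] at hcard
  obtain ⟨c, hc⟩ := exists_Sg c₀ hcard
  refine ⟨⟨c, fun p => (V₀ p.1 p.2.1).coeff p.2.2⟩, ?_, ?_⟩
  · have hI : I (ext0 c.1) (Vof (ext0 c.1) n (fun p => (V₀ p.1 p.2.1).coeff p.2.2)) n =
        I c₀ V₀ n := by
      refine I_congr hc fun i hi j hj => ?_
      ext e
      by_cases he : e < c₀ j
      · have hcj := hc j (by omega)
        exact coeff_Vof (ext0 c.1) n (fun p => (V₀ p.1 p.2.1).coeff p.2.2)
          ⟨⟨i, hi⟩, ⟨j, hj⟩, ⟨e, by change e < ext0 c.1 j; rw [hcj]; exact he⟩⟩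
      · rw [coeff_eq_zero_of_degree_lt (lt_of_lt_of_le (degree_Vof _ n _ i j)
            (by rw [hc j (by omega)]; exact_mod_cast not_lt.mp he)),
          coeff_eq_zero_of_degree_lt (lt_of_lt_of_le (hV₀ i j) (by exact_mod_cast not_lt.mp he))]
    intro f hf
    have hf' : f ∈ I c₀ V₀ n := by rw [← hI]; exact hf
    rw [← hJ] at hf'
    exact hf'
  · rintro ⟨c', v'⟩ h'
    have h1 := hmem c' _ h'
    have h2 := uniq n (ext0 c'.1) c₀ _ V₀ (degree_Vof _ n v') hV₀ h1
    obtain rfl : c' = c := by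
      apply Subtype.ext
      funext j
      apply Fin.ext
      rw [← ext0_lt c'.1 j.2, ← ext0_lt c.1 j.2, h2.1 j j.2, hc j j.2]
    congr 1
    funext p
    rw [← coeff_Vof (ext0 c'.1) n v' p, h2.2 p.1 p.1.2 p.2.1 p.2.1.2]

end Class

end K940.HZFlag
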