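import Groth.Agent.HilbZeta.K940.AxesRing
import Groth.Agent.HilbZeta.K940.FlagFam
import Mathlib.RingTheory.Nilpotent.Lemmas

/-!
# Classification of the punctual ideals of finite colength of the coordinate axes over a field
-/

set_option autoImplicit false
universe u v w

namespace K940.Axes
open MvPolynomial

/-! ### echelon forms -/

section Ech
variable {K : Type u} [Field K] {N : ℕ}

/-- triangular data -/
def Tri (B : Finset (Fin N)) (M : Fin N → Fin N → K) : Prop :=
  ∀ p j, M p j ≠ 0 → p ∉ B ∧ j ∈ B ∧ j < p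

/-- the subspace given by the data -/
def WM (B : Finset (Fin N)) (M : Fin N → Fin N → K) (w : Fin N → K) : Prop :=
  ∀ j ∈ B, w j + ∑ p ∈ Bᶜ, M p j * w p = 0

/-- the element `ε_p - ∑ M p j ε_j`. -/
def eM [DecidableEq (Fin N)] (B : Finset (Fin N)) (M : Fin N → Fin N → K) (p : Fin N) (i : Fin N) : K :=
  (if p = i then 1 else 0) - (if i ∈ B then M p i else 0)

theorem eM_mem (B : Finset (Fin N)) (M : Fin N → Fin N → K) (p : Fin N) (hp : p ∉ B) :
    WM B M (eM B M p) := by
  intro j hj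
  rw [eM, if_neg (fun h : p = j => hp (h ▸ hj)), if_pos hj, zero_sub, Finset.sum_eq_single p]
  · rw [eM, if_pos rfl, if_neg hp, sub_zero, mul_one, neg_add_cancel]
  · intro q hq hqp
    rw [eM, if_neg (fun h => hqp h.symm), if_neg (Finset.mem_compl.mp hq), sub_zero, mul_zero]
  · intro h; exact absurd (Finset.mem_compl.mpr hp) h

theorem mem_B_iff {B : Finset (Fin N)} {M : Fin N → Fin N → K} (hT : Tri B M) (j : Fin N) :
    j ∈ B ↔ ∀ w : Fin N → K, WM B M w → (∀ i, j < i → w i = 0) → w j = 0 := by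
  constructor
  · intro hj w hw h
    have h1 := hw j hj
    rw [Finset.sum_eq_zero, add_zero] at h1
    · exact h1
    · intro p _
      by_cases hM : M p j = 0
      · rw [hM, zero_mul]
      · rw [h p (hT p j hM).2.2, mul_zero]
  · intro h
    by_contra hj
    have h1 := h _ (eM_mem B M j hj) (fun i hi => by
      rw [eM, if_neg hi.ne, zero_sub, neg_eq_zero]
      split_ifs with h2
      · by_contra hM
        exact absurd (hT j i hM).2.2 (not_lt.mpr hi.le)
      · rfl)
    rw [eM, if_pos rfl, if_neg hj, sub_zero] at h1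
    exact one_ne_zero h1

theorem ech_unique {B B' : Finset (Fin N)} {M M' : Fin N → Fin N → K} (hT : Tri B M)
    (hT' : Tri B' M') (h : ∀ w, WM B M w ↔ WM B' M' w) : B = B' ∧ M = M' := by
  have hB : B = B' := by
    ext j
    rw [mem_B_iff hT, mem_B_iff hT']
    simp only [h]
  subst hB
  refine ⟨rfl, ?_⟩
  funext p j
  by_cases hp : p ∈ B
  · have h1 : M p j = 0 := by by_contra hM; exact (hT p j hM).1 hp
    have h2 : M' p j = 0 := by by_contra hM; exact (hT' p j hM).1 hp
    rw [h1, h2]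
  by_cases hj : j ∈ B
  · have h1 := (h _).mp (eM_mem B M p hp) j hj
    rw [eM, if_neg (fun h : p = j => hp (h ▸ hj)), if_pos hj, zero_sub, Finset.sum_eq_single p] at h1
    · rw [eM, if_pos rfl, if_neg hp, sub_zero, mul_one] at h1
      exact (neg_add_eq_zero.mp h1)
    · intro q hq hqp
      rw [eM, if_neg (fun h => hqp h.symm), if_neg (Finset.mem_compl.mp hq), sub_zero, mul_zero]
    · intro h; exact absurd (Finset.mem_compl.mpr hp) h
  · have h1 : M p j = 0 := by by_contra hM; exact hj (hT p j hM).2.1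
    have h2 : M' p j = 0 := by by_contra hM; exact hj (hT' p j hM).2.1
    rw [h1, h2]

theorem ech_exists (W : Submodule K (Fin N → K)) :
    ∃ (B : Finset (Fin N)) (M : Fin N → Fin N → K), Tri B M ∧ ∀ w, w ∈ W ↔ WM B M w := by
  classical
  let B : Finset (Fin N) := Finset.univ.filter fun j =>
    ∀ w ∈ W, (∀ i, j < i → w i = 0) → w j = 0
  have hB : ∀ j, j ∈ B ↔ ∀ w ∈ W, (∀ i, j < i → w i = 0) → w j = 0 := fun j => by simp [B]
  -- reduced elements
  have hred : ∀ p ∉ B, ∃ b ∈ W, b p = 1 ∧ (∀ i, p < i → b i = 0) ∧ ∀ q ∉ B, q ≠ p → b q = 0 := by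
    intro p
    induction p using WellFoundedLT.induction with
    | ind p ih =>
      intro hp
      rw [hB] at hp
      push Not at hp
      obtain ⟨w, hw, hw0, hwp⟩ := hp
      -- element `b q` for `q < p`
      have hq : ∀ q, ∃ b ∈ W, (q < p → q ∉ B → b q = 1 ∧ (∀ i, q < i → b i = 0) ∧
          ∀ q' ∉ B, q' ≠ q → b q' = 0) := by
        intro q
        by_cases h : q < p ∧ q ∉ B
        · obtain ⟨b, hb, h1⟩ := ih q h.1 h.2
          exact ⟨b, hb, fun _ _ => h1⟩
        · exact ⟨0, W.zero_mem, fun h1 h2 => absurd ⟨h1, h2⟩ h⟩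
      choose b hbW hb using hq
      let w' : Fin N → K := (w p)⁻¹ • w
      have hw' : w' ∈ W := W.smul_mem _ hw
      have hw'p : w' p = 1 := inv_mul_cancel₀ hwp
      have hw'0 : ∀ i, p < i → w' i = 0 := fun i hi => by
        change (w p)⁻¹ * w i = 0
        rw [hw0 i hi, mul_zero]
      let S : Finset (Fin N) := Finset.univ.filter fun q => q < p ∧ q ∉ B
      have hS : ∀ q, q ∈ S ↔ q < p ∧ q ∉ B := fun q => by simp [S]
      refine ⟨w' - ∑ q ∈ S, w' q • b q, W.sub_mem hw' (W.sum_mem fun q _ => W.smul_mem _ (hbW q)),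
        ?_, ?_, ?_⟩
      · rw [Pi.sub_apply, Finset.sum_apply, Finset.sum_eq_zero, sub_zero, hw'p]
        intro q hq
        rw [hS] at hq
        rw [Pi.smul_apply, (hb q hq.1 hq.2).2.1 p hq.1, smul_zero]
      · intro i hi
        rw [Pi.sub_apply, Finset.sum_apply, Finset.sum_eq_zero, sub_zero, hw'0 i hi]
        intro q hq
        rw [hS] at hq
        rw [Pi.smul_apply, (hb q hq.1 hq.2).2.1 i (hq.1.trans hi), smul_zero]
      · intro q hqB hqp
        rw [Pi.sub_apply, Finset.sum_apply]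
        rcases lt_or_gt_of_ne hqp with h | h
        · rw [Finset.sum_eq_single q]
          · rw [Pi.smul_apply, (hb q h hqB).1, smul_eq_mul, mul_one, sub_self]
          · intro q' hq' hne
            rw [hS] at hq'
            rw [Pi.smul_apply, (hb q' hq'.1 hq'.2).2.2 q hqB hne.symm, smul_zero]
          · intro h'; exact absurd ((hS q).mpr ⟨h, hqB⟩) h'
        · rw [Finset.sum_eq_zero, sub_zero, hw'0 q h]
          intro q' hq'
          rw [hS] at hq'
          rw [Pi.smul_apply, (hb q' hq'.1 hq'.2).2.1 q (hq'.1.trans h), smul_zero]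
  have hall : ∀ p, ∃ b ∈ W, (p ∉ B → b p = 1 ∧ (∀ i, p < i → b i = 0) ∧ ∀ q ∉ B, q ≠ p → b q = 0) := by
    intro p
    by_cases h : p ∉ B
    · obtain ⟨b, hb, h1⟩ := hred p h
      exact ⟨b, hb, fun _ => h1⟩
    · exact ⟨0, W.zero_mem, fun h1 => absurd h1 h⟩
  choose b hbW hb using hall
  let M : Fin N → Fin N → K := fun p j => if p ∉ B ∧ j ∈ B then - b p j else 0
  have hM : ∀ p j, p ∉ B → j ∈ B → M p j = - b p j := fun p j h1 h2 => if_pos ⟨h1, h2⟩
  refine ⟨B, M, ?_, ?_⟩
  · intro p j h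
    by_cases h1 : p ∉ B ∧ j ∈ B
    · refine ⟨h1.1, h1.2, ?_⟩
      by_contra hlt
      apply h
      rw [hM p j h1.1 h1.2, neg_eq_zero]
      rcases lt_or_eq_of_le (not_lt.mp hlt) with h2 | h2
      · exact (hb p h1.1).2.1 j h2
      · exact absurd (h2 ▸ h1.2) h1.1
    · exact absurd (if_neg h1) h
  · -- elements of `W` vanishing outside `B` are zero
    have hzero : ∀ w ∈ W, (∀ p ∉ B, w p = 0) → w = 0 := by
      intro w hw h
      by_contra hne
      have hex : ∃ i, w i ≠ 0 := by
        by_contra hcon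
        push Not at hcon
        exact hne (funext hcon)
      let S : Finset (Fin N) := Finset.univ.filter fun i => w i ≠ 0
      have hSne : S.Nonempty := by
        obtain ⟨i, hi⟩ := hex
        exact ⟨i, by simp [S, hi]⟩
      have hmax := S.max'_mem hSne
      have h1 : w (S.max' hSne) ≠ 0 := by simpa [S] using hmax
      have h2 : ∀ i, S.max' hSne < i → w i = 0 := by
        intro i hi
        by_contra hwi
        exact absurd (S.le_max' i (by simp [S, hwi])) (not_le.mpr hi)
      by_cases h3 : S.max' hSne ∈ B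
      · exact h1 ((hB _).mp h3 w hw h2)
      · exact h1 (h _ h3)
    have hexp : ∀ w : Fin N → K, (∀ p ∉ B, (w - ∑ q ∈ Bᶜ, w q • b q) p = 0) ∧
        ∀ j ∈ B, (w - ∑ q ∈ Bᶜ, w q • b q) j = w j + ∑ p ∈ Bᶜ, M p j * w p := by
      intro w
      constructor
      · intro p hp
        rw [Pi.sub_apply, Finset.sum_apply, Finset.sum_eq_single p]
        · rw [Pi.smul_apply, (hb p hp).1, smul_eq_mul, mul_one, sub_self]
        · intro q hq hqp
          rw [Pi.smul_apply, (hb q (Finset.mem_compl.mp hq)).2.2 p hp hqp.symm, smul_zero]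
        · intro h; exact absurd (Finset.mem_compl.mpr hp) h
      · intro j hj
        rw [Pi.sub_apply, Finset.sum_apply, sub_eq_add_neg, ← Finset.sum_neg_distrib]
        congr 1
        refine Finset.sum_congr rfl fun p hp => ?_
        rw [Pi.smul_apply, hM p j (Finset.mem_compl.mp hp) hj, smul_eq_mul, neg_mul, mul_comm]
    intro w
    have hmem : w ∈ W ↔ w - ∑ q ∈ Bᶜ, w q • b q ∈ W := by
      have h1 : ∑ q ∈ Bᶜ, w q • b q ∈ W := W.sum_mem fun q _ => W.smul_mem _ (hbW q)
      exact (W.sub_mem_iff_left h1).symm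
    constructor
    · intro hw j hj
      have h1 := hzero _ (hmem.mp hw) (hexp w).1
      rw [← (hexp w).2 j hj, h1]
      rfl
    · intro hw
      rw [hmem]
      have h1 : w - ∑ q ∈ Bᶜ, w q • b q = 0 := by
        funext i
        by_cases hi : i ∈ B
        · rw [(hexp w).2 i hi, hw i hi]; rfl
        · exact (hexp w).1 i hi
      rw [h1]
      exact W.zero_mem

end Ech

/-! ### classification -/

section Cl
variable {K : Type u} [Field K] {N : ℕ} {Q' : Type v} [CommRing Q']

/-- restriction to the `i`-th axis -/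
noncomputable def rho (i : Fin N) : MvPolynomial (Fin N) K →+* Polynomial K :=
  eval₂Hom Polynomial.C (fun j => if j = i then Polynomial.X else 0)

theorem rho_C (i : Fin N) (r : K) : rho i (C r) = Polynomial.C r := eval₂Hom_C _ _ _

theorem rho_X (i j : Fin N) : rho (K := K) i (X j) = if j = i then Polynomial.X else 0 :=
  eval₂Hom_X' _ _ _

theorem coeff_rho (i : Fin N) (f : MvPolynomial (Fin N) K) :
    ∀ l, (rho i f).coeff l = cf i l f := by
  induction f using MvPolynomial.induction_on with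
  | C r =>
    intro l
    rw [rho_C, Polynomial.coeff_C, cf, coeff_C]
    by_cases h : l = 0
    · subst h; simp
    · rw [if_neg h, if_neg]
      intro h2
      have := congrArg (fun m => m i) h2
      simp only [Finsupp.coe_zero, Pi.zero_apply, Finsupp.single_eq_same] at this
      exact h this.symm
  | add p q hp hq =>
    intro l
    rw [map_add, Polynomial.coeff_add, hp, hq, cf_add]
  | mul_X p s hp =>
    intro l
    rw [map_mul, rho_X, mul_comm p]
    cases l with
    | zero =>
      rw [cf_zero', coeff_zero_X_mul]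
      split_ifs with h
      · rw [Polynomial.coeff_mul_X_zero]
      · rw [mul_zero, Polynomial.coeff_zero]
    | succ l =>
      rw [cf_X_mul]
      split_ifs with h
      · rw [Polynomial.coeff_mul_X, hp]
      · rw [mul_zero, Polynomial.coeff_zero]

theorem map_X_mul (Φ : MvPolynomial (Fin N) K →+* Q')
    (h1 : ∀ i j : Fin N, i ≠ j → Φ (X i) * Φ (X j) = 0) (i : Fin N) (f : MvPolynomial (Fin N) K) :
    Φ (X i * f) = Φ (X i) * (rho i f).eval₂ (Φ.comp C) (Φ (X i)) := by
  induction f using MvPolynomial.induction_on with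
  | C r => rw [rho_C, Polynomial.eval₂_C, map_mul]; rfl
  | add p q hp hq => rw [mul_add, map_add, hp, hq, map_add, Polynomial.eval₂_add, mul_add]
  | mul_X p s hp =>
    rw [← mul_assoc, map_mul, hp, map_mul, Polynomial.eval₂_mul, rho_X]
    split_ifs with h
    · subst h
      rw [Polynomial.eval₂_X, mul_assoc]
    · rw [Polynomial.eval₂_zero, mul_zero, mul_zero, mul_right_comm, h1 i s (fun h' => h h'.symm),
        zero_mul]

theorem isNilpotent_sub (Φ : MvPolynomial (Fin N) K →+* Q') (h2 : ∀ i, IsNilpotent (Φ (X i)))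
    (f : MvPolynomial (Fin N) K) : IsNilpotent (Φ f - Φ (C (coeff 0 f))) := by
  induction f using MvPolynomial.induction_on with
  | C r =>
    rw [coeff_zero_C, sub_self]
    exact IsNilpotent.zero
  | add p q hp hq =>
    rw [map_add, coeff_add, map_add, map_add, add_sub_add_comm]
    exact (Commute.all _ _).isNilpotent_add hp hq
  | mul_X p s hp =>
    rw [mul_comm p, coeff_zero_X_mul, map_zero, map_zero, sub_zero, map_mul]
    exact (Commute.all _ _).isNilpotent_mul_right (h2 s)

theorem isUnit_of_sub {x y : Q'} (hx : IsUnit x) (h : IsNilpotent (y - x)) : IsUnit y := by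
  have := IsNilpotent.isUnit_add_left_of_commute h hx (Commute.all _ _)
  rwa [add_sub_cancel] at this

theorem coeff_zero_of_mem [Nontrivial Q'] (Φ : MvPolynomial (Fin N) K →+* Q')
    (h2 : ∀ i, IsNilpotent (Φ (X i))) (f : MvPolynomial (Fin N) K) (hf : Φ f = 0) :
    coeff 0 f = 0 := by
  by_contra hne
  have h3 : IsUnit (Φ (C (coeff 0 f))) := by
    rw [← RingHom.comp_apply]
    exact (IsUnit.mk0 _ hne).map (Φ.comp C)
  have h4 := isUnit_of_sub h3 (isNilpotent_sub Φ h2 f)
  rw [hf] at h4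
  exact not_isUnit_zero h4

theorem sum_le_zero (α : Fin N → ℕ) (B : Finset (Fin N)) (M : Fin N → Fin N → K) (p i : Fin N)
    (hp : p ∉ B) : cf i (α i + 1) (lin α B M p) = eM B M p i := by
  rw [cf_lin, eM]
  congr 1
  · by_cases h : p = i
    · subst h; simp
    · rw [if_neg (fun h' => h h'.1), if_neg h]
  · by_cases h : i ∈ B
    · rw [if_pos ⟨h, rfl⟩, if_pos h]
    · rw [if_neg (fun h' => h h'.1), if_neg h]

/-- **Existence** of the data of a punctual ideal. -/
theorem exists_IA [Nontrivial Q'] (Φ : MvPolynomial (Fin N) K →+* Q')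
    (h1 : ∀ i j : Fin N, i ≠ j → Φ (X i) * Φ (X j) = 0) (h2 : ∀ i, IsNilpotent (Φ (X i))) :
    ∃ (α : Fin N → ℕ) (B : Finset (Fin N)) (M : Fin N → Fin N → K), Tri B M ∧
      (∀ j ∈ B, ∃ p, M p j ≠ 0) ∧ IA α B M = RingHom.ker Φ := by
  classical
  have hex : ∀ i : Fin N, ∃ l, ∃ f, Φ f = 0 ∧ cf i l f ≠ 0 := by
    intro i
    obtain ⟨n, hn⟩ := h2 i
    cases n with
    | zero => exact absurd (by rw [← pow_zero, hn]) (one_ne_zero (α := Q'))
    | succ n =>
      refine ⟨n + 1, X i ^ (n + 1), by rw [map_pow, hn], ?_⟩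
      rw [cf_X_pow, if_pos ⟨rfl, rfl⟩]
      exact one_ne_zero
  have hc0 : ∀ f, Φ f = 0 → coeff 0 f = 0 := coeff_zero_of_mem Φ h2
  have hα : ∀ i : Fin N, ∃ a : ℕ, (∀ f, Φ f = 0 → ∀ l ≤ a, cf i l f = 0) ∧
      ∃ f, Φ f = 0 ∧ cf i (a + 1) f ≠ 0 := by
    intro i
    obtain ⟨a, ha⟩ : ∃ a, Nat.find (hex i) = a + 1 := by
      refine ⟨Nat.find (hex i) - 1, ?_⟩
      have : Nat.find (hex i) ≠ 0 := by
        intro h0
        obtain ⟨f, hf, hf'⟩ := Nat.find_spec (hex i)
        rw [h0, cf_zero'] at hf'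
        exact hf' (hc0 f hf)
      omega
    refine ⟨a, fun f hf l hl => ?_, ?_⟩
    · by_contra hne
      exact Nat.find_min (hex i) (by rw [ha]; omega) ⟨f, hf, hne⟩
    · rw [← ha]
      exact Nat.find_spec (hex i)
  choose α hα1 hα2 using hα
  -- the high powers
  have hpow : ∀ i, (X i : MvPolynomial (Fin N) K) ^ (α i + 2) ∈ RingHom.ker Φ := by
    intro i
    obtain ⟨f, hf, hu⟩ := hα2 i
    have h3 := map_X_mul Φ h1 i f
    rw [map_mul, hf, mul_zero] at h3
    have h4 : Polynomial.X ^ (α i + 1) ∣ rho i f := by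
      rw [Polynomial.X_pow_dvd_iff]
      intro l hl
      rw [coeff_rho]
      exact hα1 i f hf l (by omega)
    obtain ⟨h, hh⟩ := h4
    have h5 : h.coeff 0 = cf i (α i + 1) f := by
      rw [← coeff_rho, hh, Polynomial.coeff_X_pow_mul', if_pos le_rfl, Nat.sub_self]
    have h6 : IsUnit (h.eval₂ (Φ.comp C) (Φ (X i))) := by
      refine isUnit_of_sub (x := (Φ.comp C) (h.coeff 0)) ?_ ?_
      · rw [h5]
        exact (IsUnit.mk0 _ hu).map (Φ.comp C)
      · have h7 : h.eval₂ (Φ.comp C) (Φ (X i)) =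
            h.divX.eval₂ (Φ.comp C) (Φ (X i)) * Φ (X i) + (Φ.comp C) (h.coeff 0) := by
          conv_lhs => rw [← Polynomial.divX_mul_X_add h]
          rw [Polynomial.eval₂_add, Polynomial.eval₂_C, Polynomial.eval₂_mul, Polynomial.eval₂_X]
        rw [h7, add_sub_cancel_right]
        exact (Commute.all _ _).isNilpotent_mul_left (h2 i)
    rw [hh, Polynomial.eval₂_mul, Polynomial.eval₂_pow, Polynomial.eval₂_X, ← mul_assoc,
      ← pow_succ'] at h3
    rw [RingHom.mem_ker, map_pow]
    exact (h6.mul_left_eq_zero).mp h3.symm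
  have hcross : ∀ i j : Fin N, i ≠ j → (X i * X j : MvPolynomial (Fin N) K) ∈ RingHom.ker Φ := by
    intro i j hij
    rw [RingHom.mem_ker, map_mul, h1 i j hij]
  -- the space of leading terms
  let W : Submodule K (Fin N → K) :=
    { carrier := {w | ∃ f, Φ f = 0 ∧ ∀ i, cf i (α i + 1) f = w i}
      zero_mem' := ⟨0, map_zero _, fun i => coeff_zero _⟩
      add_mem' := by
        rintro w w' ⟨f, hf, hf'⟩ ⟨g, hg, hg'⟩
        exact ⟨f + g, by rw [map_add, hf, hg, add_zero], fun i => by
          rw [cf_add, hf', hg']; rfl⟩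
      smul_mem' := by
        rintro r w ⟨f, hf, hf'⟩
        exact ⟨C r * f, by rw [map_mul, hf, mul_zero], fun i => by
          rw [cf_C_mul, hf']; rfl⟩ }
  have hW : ∀ w, w ∈ W ↔ ∃ f, Φ f = 0 ∧ ∀ i, cf i (α i + 1) f = w i := fun w => Iff.rfl
  obtain ⟨B, M, hT, hWM⟩ := ech_exists W
  refine ⟨α, B, M, hT, ?_, ?_⟩
  · intro j hj
    obtain ⟨f, hf, hu⟩ := hα2 j
    have h3 := (hWM (fun i => cf i (α i + 1) f)).mp ⟨f, hf, fun i => rfl⟩ j hj
    by_contra hcon
    push Not at hcon
    rw [Finset.sum_eq_zero (fun p _ => by rw [hcon p, zero_mul]), add_zero] at h3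
    exact hu h3
  · apply le_antisymm
    · refine IA_le α B M _ hcross hpow fun p hp => ?_
      obtain ⟨f, hf, hf'⟩ := (hW _).mp ((hWM _).mpr (eM_mem B M p hp))
      have h3 : lin α B M p - f ∈ RingHom.ker Φ := by
        refine mem_of_low α _ hcross hpow _ ?_ ?_
        · rw [coeff_sub, coeff_zero_lin, hc0 f hf, sub_zero]
        · intro i l hl
          rw [cf_sub]
          rcases hl.lt_or_eq with hl' | rfl
          · rw [hα1 i f hf (l + 1) hl', sub_zero]
            exact (lin_mem α B M p hp).2.1 i l hl'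
          · rw [sum_le_zero α B M p i hp, hf', sub_self]
      rw [RingHom.mem_ker, map_sub, hf, sub_zero] at h3
      exact h3
    · intro f hf
      rw [RingHom.mem_ker] at hf
      refine ⟨hc0 f hf, fun i l hl => hα1 i f hf (l + 1) hl, ?_⟩
      exact (hWM (fun i => cf i (α i + 1) f)).mp ⟨f, hf, fun i => rfl⟩

theorem alpha_le {α α' : Fin N → ℕ} {B B' : Finset (Fin N)} {M M' : Fin N → Fin N → K}
    (hM : ∀ j ∈ B, ∃ p, p ∉ B ∧ M p j ≠ 0) (h : IA α B M ≤ IA α' B' M') (i : Fin N) :
    α' i ≤ α i := by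
  obtain ⟨f, hf, hf'⟩ : ∃ f ∈ IA α B M, cf i (α i + 1) f ≠ 0 := by
    by_cases hi : i ∈ B
    · obtain ⟨p, hp, hpi⟩ := hM i hi
      refine ⟨lin α B M p, lin_mem α B M p hp, ?_⟩
      rw [sum_le_zero α B M p i hp, eM, if_neg (fun h : p = i => hp (h ▸ hi)), if_pos hi, zero_sub]
      exact neg_ne_zero.mpr hpi
    · refine ⟨lin α B M i, lin_mem α B M i hi, ?_⟩
      rw [sum_le_zero α B M i i hi, eM, if_pos rfl, if_neg hi, sub_zero]
      exact one_ne_zero
  by_contra hlt
  push Not at hlt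
  exact hf' ((h hf).2.1 i (α i) hlt)

theorem WM_iff (α : Fin N → ℕ) (B : Finset (Fin N)) (M : Fin N → Fin N → K) (w : Fin N → K) :
    WM B M w ↔ ∃ f ∈ IA α B M, ∀ i, cf i (α i + 1) f = w i := by
  constructor
  · intro hw
    have h1 : ∀ i l, cf i (l + 1) (∑ s, C (w s) * (X s : MvPolynomial (Fin N) K) ^ (α s + 1)) =
        if α i = l then w i else 0 := by
      intro i l
      rw [cf_sum, Finset.sum_eq_single i]
      · rw [cf_C_mul, cf_X_pow]
        by_cases h : α i = l
        · rw [if_pos ⟨rfl, h⟩, if_pos h, mul_one]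
        · rw [if_neg (fun h' => h h'.2), if_neg h, mul_zero]
      · intro s _ hs
        rw [cf_C_mul, cf_X_pow, if_neg (fun h' => hs h'.1), mul_zero]
      · intro h; exact absurd (Finset.mem_univ _) h
    have h2 : ∀ i, cf i (α i + 1) (∑ s, C (w s) * (X s : MvPolynomial (Fin N) K) ^ (α s + 1)) =
        w i := fun i => by rw [h1, if_pos rfl]
    refine ⟨_, ⟨?_, ?_, ?_⟩, h2⟩
    · rw [coeff_sum]
      refine Finset.sum_eq_zero fun s _ => ?_
      rw [coeff_C_mul, coeff_zero_X_pow, mul_zero]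
    · intro i l hl
      rw [h1, if_neg (by omega)]
    · intro j hj
      rw [tp]
      simp only [h2]
      exact hw j hj
  · rintro ⟨f, hf, hf'⟩ j hj
    have h1 := hf.2.2 j hj
    rw [tp] at h1
    simp only [hf'] at h1
    exact h1

/-- **Uniqueness** of the data of a punctual ideal. -/
theorem IA_unique {α α' : Fin N → ℕ} {B B' : Finset (Fin N)} {M M' : Fin N → Fin N → K}
    (hT : Tri B M) (hT' : Tri B' M') (hM : ∀ j ∈ B, ∃ p, M p j ≠ 0)
    (hM' : ∀ j ∈ B', ∃ p, M' p j ≠ 0) (h : IA α B M = IA α' B' M') :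
    α = α' ∧ B = B' ∧ M = M' := by
  have hα : α = α' := by
    funext i
    refine le_antisymm (alpha_le (fun j hj => ?_) h.ge i) (alpha_le (fun j hj => ?_) h.le i)
    · obtain ⟨p, hp⟩ := hM' j hj
      exact ⟨p, (hT' p j hp).1, hp⟩
    · obtain ⟨p, hp⟩ := hM j hj
      exact ⟨p, (hT p j hp).1, hp⟩
  subst hα
  refine ⟨rfl, ech_unique hT hT' fun w => ?_⟩
  rw [WM_iff α, WM_iff α, h]

end Cl

end K940.Axes
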