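import Groth.Agent.Picfga.HilbRep
import Groth.Agent.Picfga.HilbAff
import Groth.Agent.HilbZeta.K940.K0Bij
import Groth.Agent.RelQuot.K928.Fibration

/-!
# The class of a punctual Hilbert scheme from finitely many affine strata
-/

set_option autoImplicit false
set_option backward.isDefEq.respectTransparency false
universe u

open CategoryTheory CategoryTheory.Limits AlgebraicGeometry TopologicalSpace

namespace K940.HilbStrata

open Groth.Agent.Picfga.HilbPull Groth.Agent.Picfga.HilbTriple Groth.Agent.Picfga.HilbChartAlg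
  Groth.Agent.Picfga.HilbBas Groth.Agent.Picfga.HilbRep Groth.Agent.Picfga.HilbAff
  Groth.Agent.Picfga.HilbChartSch

section Supp
variable {X S : Scheme.{u}} {f : X ⟶ S} {d : ℕ}

/-- the support condition at a point `t`: all points of `Z` over `t` lie over `x₀`. -/
theorem supp_pull (x₀ : X) {T T' : Over S} (g : T' ⟶ T) (x : HilbD.Obj f d T) (t : T'.left) :
    (∀ z, sm (pullObj f g x) z = t → pr (pullObj f g x) z = x₀) ↔
      (∀ z, sm x z = g.left t → pr x z = x₀) := by
  obtain ⟨m, hm, hm'⟩ := exists_map_pullObj g x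
  constructor
  · intro h z hz
    obtain ⟨w, hw1, hw2⟩ := Scheme.exists_preimage_of_isPullback hm z t hz
    rw [← hw1, ← Scheme.Hom.comp_apply, hm']
    exact h w hw2
  · intro h z hz
    rw [← hm', Scheme.Hom.comp_apply]
    apply h
    rw [← hz, ← Scheme.Hom.comp_apply, ← Scheme.Hom.comp_apply, hm.w]

end Supp

section Ring

variable {B Q : Type u} [CommRing B] [CommRing Q] {d : ℕ}

theorem rBas_appTop {A0 : Type u} [CommRing A0] (β : B →+* Q) (a : A0 →+* Q) (w : Fin d → A0)
    (h : RBas β (fun j => a (w j))) :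
    RBas (Spec.map (CommRingCat.ofHom β)).appTop.hom (fun j =>
      (Spec.map (CommRingCat.ofHom a)).appTop.hom
        ((Scheme.ΓSpecIso (CommRingCat.of A0)).inv.hom (w j))) := by
  have h1 := rBas_comp_iso (CommRingCat.ofHom β) _ (Scheme.ΓSpecIso (CommRingCat.of Q)).inv h
  have h2 := rBas_iso_comp _ _ (Scheme.ΓSpecIso (CommRingCat.of B)).hom h1
  have e1 : (Spec.map (CommRingCat.ofHom β)).appTop =
      (Scheme.ΓSpecIso (CommRingCat.of B)).hom ≫ CommRingCat.ofHom β ≫
        (Scheme.ΓSpecIso (CommRingCat.of Q)).inv := by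
    rw [← Scheme.ΓSpecIso_naturality_assoc, Iso.hom_inv_id, Category.comp_id]
  have e2 : (Scheme.ΓSpecIso (CommRingCat.of A0)).inv ≫ (Spec.map (CommRingCat.ofHom a)).appTop =
      CommRingCat.ofHom a ≫ (Scheme.ΓSpecIso (CommRingCat.of Q)).inv := by
    rw [← Scheme.ΓSpecIso_inv_naturality]
  rw [e1]
  have e3 : ∀ j, (Spec.map (CommRingCat.ofHom a)).appTop.hom
        ((Scheme.ΓSpecIso (CommRingCat.of A0)).inv.hom (w j)) =
      (Scheme.ΓSpecIso (CommRingCat.of Q)).inv.hom (a (w j)) := fun j => congr($(e2).hom (w j))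
  simp only [e3]
  exact h2

/-- a spanning family of the right size over a field is a basis. -/
theorem rBas_of_surjective {K : Type u} [Field K] (β : K →+* Q) (u v : Fin d → Q) (hu : RBas β u)
    (hv : ∀ j, ∃ b : Fin d → K, u j = ∑ i, β (b i) * v i) : RBas β v := by
  algebraize [β]
  have hsm : ∀ (x : K) (y : Q), β x * y = x • y := fun x y => (Algebra.smul_def x y).symm
  let Lu : (Fin d → K) →ₗ[K] Q := Fintype.linearCombination K u
  let Lv : (Fin d → K) →ₗ[K] Q := Fintype.linearCombination K v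
  have hLu : ∀ b, Lu b = ∑ i, β (b i) * u i := fun b => by
    simp only [hsm]; rfl
  have hLv : ∀ b, Lv b = ∑ i, β (b i) * v i := fun b => by
    simp only [hsm]; rfl
  have hbu : Function.Bijective Lu := by
    have : (Lu : (Fin d → K) → Q) = fun b => ∑ i, β (b i) * u i := funext hLu
    rw [this]; exact hu
  have hsv : Function.Surjective Lv := by
    rw [← LinearMap.range_eq_top, eq_top_iff, ← LinearMap.range_eq_top.mpr hbu.2]
    rw [show LinearMap.range Lu = Submodule.span K (Set.range u) from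
      Fintype.range_linearCombination K u, Submodule.span_le]
    rintro _ ⟨j, rfl⟩
    obtain ⟨b, hb⟩ := hv j
    exact ⟨b, by rw [hLv, hb]⟩
  let e : (Fin d → K) ≃ₗ[K] Q := LinearEquiv.ofBijective Lu hbu
  have h1 : Function.Surjective (e.symm.toLinearMap ∘ₗ Lv) := by
    rw [LinearMap.coe_comp]
    exact e.symm.surjective.comp hsv
  have h2 : Function.Injective (e.symm.toLinearMap ∘ₗ Lv) :=
    LinearMap.injective_iff_surjective.mpr h1
  have h3 : Function.Injective Lv := by
    rw [LinearMap.coe_comp] at h2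
    exact h2.of_comp
  have : (fun b : Fin d → K => ∑ i, β (b i) * v i) = Lv := (funext hLv).symm
  change Function.Bijective (fun b : Fin d → K => ∑ i, β (b i) * v i)
  rw [this]
  exact ⟨h3, hsv⟩

end Ring

theorem isPullback_toSpec {Z : Scheme.{u}} [IsAffine Z] {K R Q : CommRingCat.{u}} (π : Z ⟶ Spec K)
    (β' : K ⟶ Γ(Z, ⊤)) (hβ' : Z.toSpecΓ ≫ Spec.map β' = π) {β : R ⟶ Q} {φ : R ⟶ K}
    {ψ : Q ⟶ Γ(Z, ⊤)} (h : IsPullback (Spec.map ψ) (Spec.map β') (Spec.map β) (Spec.map φ)) :
    IsPullback (Z.toSpecΓ ≫ Spec.map ψ) π (Spec.map β) (Spec.map φ) := by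
  have h4 : IsPullback Z.toSpecΓ π (Spec.map β') (𝟙 (Spec K)) :=
    IsPullback.of_horiz_isIso ⟨by rw [hβ', Category.comp_id]⟩
  have h5 := h4.paste_horiz h
  rwa [Category.id_comp] at h5

section Fam

variable {k A0 : Type u} [Field k] [CommRing A0] [Algebra k A0] {d : ℕ}

/-- the structure morphism of `Spec A0`. -/
noncomputable abbrev fA (k A0 : Type u) [Field k] [CommRing A0] [Algebra k A0] :
    Spec (CommRingCat.of A0) ⟶ Spec (CommRingCat.of k) :=
  Spec.map (CommRingCat.ofHom (algebraMap k A0))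

/-- the base of a family -/
noncomputable abbrev TR {R : Type u} [CommRing R] (κ : k →+* R) : Over (Spec (CommRingCat.of k)) :=
  Over.mk (Spec.map (CommRingCat.ofHom κ))

/-- An affine family: `Q` is a quotient of `A0 ⊗ R`, free over `R` with basis `a (w j)`. -/
theorem exists_fam {R Q : Type u} [CommRing R] [CommRing Q] (κ : k →+* R) (β : R →+* Q)
    (a : A0 →+* Q) (hk : a.comp (algebraMap k A0) = β.comp κ) (w : Fin d → A0)
    (hw : RBas β (fun j => a (w j))) :
    ∃ x : HilbD.Obj (fA k A0) d (TR κ), ∀ (T' : Over (Spec (CommRingCat.of k))) (g : T' ⟶ TR κ)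
      (y : HilbD.Obj (fA k A0) d T'), pullObj (fA k A0) g x = y ↔
        ∃ m : y.1.subscheme ⟶ Spec (CommRingCat.of Q),
          IsPullback m (pi (fA k A0) y.1) (Spec.map (CommRingCat.ofHom β)) g.left ∧
          m ≫ Spec.map (CommRingCat.ofHom a) = qq (fA k A0) y.1 := by
  have hcomm : Spec.map (CommRingCat.ofHom a) ≫ fA k A0 = Spec.map (CommRingCat.ofHom β) ≫
      (TR κ).hom := by
    change _ ≫ Spec.map _ = _ ≫ Spec.map _
    rw [← Spec.map_comp, ← Spec.map_comp, ← CommRingCat.ofHom_comp, ← CommRingCat.ofHom_comp, hk]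
  have hb := rBas_appTop β a w hw
  have : IsAffine (TR κ).left := inferInstanceAs (IsAffine (Spec (CommRingCat.of R)))
  have hcl : IsClosedImmersion (toXT (fA k A0) (T := TR κ) (Spec.map (CommRingCat.ofHom β))
      (Spec.map (CommRingCat.ofHom a)) hcomm) :=
    isClosedImmersion_toXT (fA k A0) (T := TR κ) _ _ hcomm _ hb
  have hdeg : Mor2.IsFinLocFreeOfDeg d (Spec.map (CommRingCat.ofHom β)) :=
    isFinLocFreeOfDeg_of_rBas _ _ hb
  exact ⟨ofTriple (fA k A0) (T := TR κ) _ _ hcomm hdeg, fun T' g y =>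
    pullObj_ofTriple_eq_iff (fA k A0) (T := TR κ) g _ _ hcomm hdeg y⟩

/-- A punctual algebra of dimension `d` over a field `K ⊇ k`: a quotient of `A0 ⊗ K`, of dimension
`d` over `K`, all whose primes lie over `x₀`. -/
structure IsPunct (x₀ : PrimeSpectrum A0) (d : ℕ) {K Q' : Type u} [Field K] [CommRing Q']
    (κ : k →+* K) (β' : K →+* Q') (a' : A0 →+* Q') : Prop where
  comm : a'.comp (algebraMap k A0) = β'.comp κ
  bas : ∃ u : Fin d → A0, RBas β' (fun j => a' (u j))
  supp : ∀ p : PrimeSpectrum Q', PrimeSpectrum.comap a' p = x₀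

section Point

variable {K : Type u} [Field K] {κ : k →+* K} (x : HilbD.Obj (fA k A0) d (TR κ))

/-- the algebra of an element over a field -/
noncomputable abbrev algOf : CommRingCat.{u} := Γ(x.1.subscheme, ⊤)

/-- its structure map -/
noncomputable abbrev strOf : CommRingCat.of K ⟶ algOf x :=
  (Scheme.ΓSpecIso (CommRingCat.of K)).inv ≫ (sm x).appTop

/-- its map from `A0` -/
noncomputable abbrev augOf : CommRingCat.of A0 ⟶ algOf x :=
  (Scheme.ΓSpecIso (CommRingCat.of A0)).inv ≫ (pr x).appTop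

theorem isAffine_sub : IsAffine x.1.subscheme := by
  have : IsAffine (TR κ).left := inferInstanceAs (IsAffine (Spec (CommRingCat.of K)))
  exact isAffine_subscheme (fA k A0) x

theorem toSpecΓ_strOf : x.1.subscheme.toSpecΓ ≫ Spec.map (strOf x) = sm x := by
  rw [Spec.map_comp, ← Scheme.toSpecΓ_naturality_assoc]
  change sm x ≫ (Spec (CommRingCat.of K)).toSpecΓ ≫ _ = _
  rw [toSpecΓ_SpecMap_ΓSpecIso_inv]
  exact Category.comp_id _

theorem toSpecΓ_augOf : x.1.subscheme.toSpecΓ ≫ Spec.map (augOf x) = pr x := by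
  rw [Spec.map_comp, ← Scheme.toSpecΓ_naturality_assoc, toSpecΓ_SpecMap_ΓSpecIso_inv,
    Category.comp_id]

theorem strOf_comm : (augOf x).hom.comp (algebraMap k A0) = (strOf x).hom.comp κ := by
  have h1 : CommRingCat.ofHom (algebraMap k A0) ≫ augOf x = CommRingCat.ofHom κ ≫ strOf x := by
    rw [Scheme.ΓSpecIso_inv_naturality_assoc, Scheme.ΓSpecIso_inv_naturality_assoc]
    congr 1
    have h2 := sm_pr x
    have h3 := congrArg (fun e => Scheme.Hom.appTop e) h2
    simp only [Scheme.Hom.comp_appTop] at h3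
    exact h3.symm
  exact congrArg CommRingCat.Hom.hom h1

/-- the algebra of an element over a field is generated by `A0`. -/
theorem exists_basis : ∃ u : Fin d → A0, RBas (strOf x).hom (fun j => (augOf x).hom (u j)) := by
  have hT : IsAffine (TR κ).left := inferInstanceAs (IsAffine (Spec (CommRingCat.of K)))
  have t : (TR κ).left := (⊥ : PrimeSpectrum K)
  obtain ⟨w, s, hs, H⟩ := exists_coord (fA k A0) x t
  have hu : IsUnit s := by
    have h1 : s ∉ ((TR κ).left.toSpecΓ t).asIdeal := (mem_basicOpen_iff s t).mp hs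
    have h2 : s ≠ 0 := fun h0 => h1 (by rw [h0]; exact Submodule.zero_mem _)
    have h3 : IsUnit ((Scheme.ΓSpecIso (CommRingCat.of K)).hom.hom s) := by
      refine isUnit_iff_ne_zero (G₀ := K).mpr fun h4 => h2 ?_
      have h5 := congrArg (Scheme.ΓSpecIso (CommRingCat.of K)).inv.hom h4
      rw [map_zero] at h5
      rw [← h5]
      exact (congr($((Scheme.ΓSpecIso (CommRingCat.of K)).hom_inv_id).hom s)).symm
    have h6 := h3.map (Scheme.ΓSpecIso (CommRingCat.of K)).inv.hom
    have h7 : (Scheme.ΓSpecIso (CommRingCat.of K)).inv.hom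
        ((Scheme.ΓSpecIso (CommRingCat.of K)).hom.hom s) = s :=
      congr($((Scheme.ΓSpecIso (CommRingCat.of K)).hom_inv_id).hom s)
    rwa [h7] at h6
  have h8 := H (TR κ) (𝟙 _) (hu.map _)
  rw [pullObj_id, basOn_iff] at h8
  refine ⟨fun j => (Scheme.ΓSpecIso (CommRingCat.of A0)).hom.hom (w j), ?_⟩
  have h9 := rBas_iso_comp _ _ (Scheme.ΓSpecIso (CommRingCat.of K)).inv h8
  have h10 : ∀ j, (augOf x).hom ((Scheme.ΓSpecIso (CommRingCat.of A0)).hom.hom (w j)) =
      (qq (fA k A0) x.1).appTop.hom (w j) := by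
    intro j
    change (qq (fA k A0) x.1).appTop.hom ((Scheme.ΓSpecIso (CommRingCat.of A0)).inv.hom
      ((Scheme.ΓSpecIso (CommRingCat.of A0)).hom.hom (w j))) = _
    congr 1
    exact congr($((Scheme.ΓSpecIso (CommRingCat.of A0)).hom_inv_id).hom (w j))
  simp only [h10]
  exact h9

theorem isPunct (x₀ : PrimeSpectrum A0) (hx : ∀ z, pr x z = x₀) :
    IsPunct x₀ d κ (strOf x).hom (augOf x).hom := by
  refine ⟨strOf_comm x, exists_basis x, fun p => ?_⟩
  have := isAffine_sub x
  obtain ⟨z, hz⟩ : ∃ z, x.1.subscheme.toSpecΓ z = p :=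
    ⟨x.1.subscheme.isoSpec.inv p, by
      rw [← Scheme.isoSpec_hom, ← Scheme.Hom.comp_apply, Iso.inv_hom_id]; rfl⟩
  have h1 : (x.1.subscheme.toSpecΓ ≫ Spec.map (augOf x)) z = pr x z := by rw [toSpecΓ_augOf]
  rw [Scheme.Hom.comp_apply, hz, hx] at h1
  exact h1

/-- comparison of an element over a field with a member of an affine family. -/
theorem pullObj_eq_iff {R Q : Type u} [CommRing R] [CommRing Q] {κR : k →+* R} {β : R →+* Q}
    {a : A0 →+* Q} {w : Fin d → A0}
    (hw : RBas β (fun j => a (w j))) (xR : HilbD.Obj (fA k A0) d (TR κR))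
    (hxR : ∀ (T' : Over (Spec (CommRingCat.of k))) (g : T' ⟶ TR κR)
      (y : HilbD.Obj (fA k A0) d T'), pullObj (fA k A0) g xR = y ↔
        ∃ m : y.1.subscheme ⟶ Spec (CommRingCat.of Q),
          IsPullback m (pi (fA k A0) y.1) (Spec.map (CommRingCat.ofHom β)) g.left ∧
          m ≫ Spec.map (CommRingCat.ofHom a) = qq (fA k A0) y.1)
    (φ : R →+* K) (g : TR κ ⟶ TR κR) (hg : g.left = Spec.map (CommRingCat.ofHom φ)) :
    pullObj (fA k A0) g xR = x ↔
      ∃ ψ : Q →+* algOf x, ψ.comp a = (augOf x).hom ∧ ψ.comp β = (strOf x).hom.comp φ := by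
  rw [hxR]
  constructor
  · rintro ⟨m, hm, hq⟩
    refine ⟨((Scheme.ΓSpecIso (CommRingCat.of Q)).inv ≫ m.appTop).hom, ?_, ?_⟩
    · have h1 : CommRingCat.ofHom a ≫ (Scheme.ΓSpecIso (CommRingCat.of Q)).inv ≫ m.appTop =
          augOf x := by
        rw [Scheme.ΓSpecIso_inv_naturality_assoc, ← Scheme.Hom.comp_appTop, hq]
      exact congrArg CommRingCat.Hom.hom h1
    · have h1 : CommRingCat.ofHom β ≫ (Scheme.ΓSpecIso (CommRingCat.of Q)).inv ≫ m.appTop =
          CommRingCat.ofHom φ ≫ strOf x := by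
        rw [Scheme.ΓSpecIso_inv_naturality_assoc, ← Scheme.Hom.comp_appTop, hm.w, hg,
          Scheme.Hom.comp_appTop, Scheme.ΓSpecIso_inv_naturality_assoc]
      exact congrArg CommRingCat.Hom.hom h1
  · rintro ⟨ψ, h1, h2⟩
    have hbas : RBas (strOf x).hom (fun j => ψ (a (w j))) := by
      obtain ⟨u, hu⟩ := exists_basis x
      refine rBas_of_surjective _ _ _ hu fun j => ?_
      obtain ⟨b, hb⟩ := hw.2 (a (u j))
      refine ⟨fun i => φ (b i), ?_⟩
      have h3 : (augOf x).hom (u j) = ψ (a (u j)) := congr($(h1.symm) (u j))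
      rw [h3, ← hb, map_sum]
      refine Finset.sum_congr rfl fun i _ => ?_
      rw [map_mul]
      congr 1
      exact congr($(h2) (b i))
    have hpo : IsPushout (CommRingCat.ofHom β) (CommRingCat.ofHom φ) (CommRingCat.ofHom ψ)
        (strOf x) :=
      isPushout_of_rBas (fun j => a (w j)) (by
        refine CommRingCat.hom_ext ?_
        exact h2) hw hbas
    have := isAffine_sub x
    refine ⟨x.1.subscheme.toSpecΓ ≫ Spec.map (CommRingCat.ofHom ψ), ?_, ?_⟩
    · have h5 := isPullback_toSpec _ _ (toSpecΓ_strOf x) (isPullback_SpecMap_of_isPushout _ _ _ _ hpo)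
      rw [hg]
      exact h5
    · rw [Category.assoc, ← Spec.map_comp]
      have h3 : CommRingCat.ofHom a ≫ CommRingCat.ofHom ψ = augOf x := by
        refine CommRingCat.hom_ext ?_
        exact h1
      rw [h3]
      exact toSpecΓ_augOf x

end Point

/-- lifting through a closed immersion. -/
theorem exists_lift_closed {X Y T : Scheme.{u}} (f : X ⟶ Y) [IsClosedImmersion f] [IsReduced T] (g : T ⟶ Y)
    (h : Set.range g ⊆ Set.range f) : ∃ l : T ⟶ X, l ≫ f = g := by
  have h1 : Surjective (pullback.snd f g) := by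
    refine ⟨fun t => ?_⟩
    obtain ⟨x, hx⟩ := h ⟨t, rfl⟩
    obtain ⟨z, -, hz⟩ := Scheme.Pullback.exists_preimage_pullback (f := f) (g := g) x t hx
    exact ⟨z, hz⟩
  have h3 : IsIso (pullback.snd f g) := isIso_of_isClosedImmersion_of_surjective _
  refine ⟨inv (pullback.snd f g) ≫ pullback.fst f g, ?_⟩
  rw [Category.assoc, pullback.condition, IsIso.inv_hom_id_assoc]

/-- the points of a member of an affine family -/
theorem supp_fam {R Q : Type u} [CommRing R] [CommRing Q] {κ : k →+* R} {β : R →+* Q}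
    {a : A0 →+* Q} (xR : HilbD.Obj (fA k A0) d (TR κ))
    (hxR : ∀ (T' : Over (Spec (CommRingCat.of k))) (g : T' ⟶ TR κ)
      (y : HilbD.Obj (fA k A0) d T'), pullObj (fA k A0) g xR = y ↔
        ∃ m : y.1.subscheme ⟶ Spec (CommRingCat.of Q),
          IsPullback m (pi (fA k A0) y.1) (Spec.map (CommRingCat.ofHom β)) g.left ∧
          m ≫ Spec.map (CommRingCat.ofHom a) = qq (fA k A0) y.1) (x₀ : PrimeSpectrum A0)
    (hs : ∀ p : PrimeSpectrum Q, PrimeSpectrum.comap a p = x₀) (z : xR.1.subscheme) :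
    pr xR z = x₀ := by
  obtain ⟨m, -, hq⟩ := (hxR _ (𝟙 _) xR).mp (pullObj_id _ _ _)
  have h1 : (m ≫ Spec.map (CommRingCat.ofHom a)) z = pr xR z := by rw [hq]
  rw [← h1, Scheme.Hom.comp_apply]
  exact hs _

/-- **The class of a punctual Hilbert scheme from finitely many affine strata.** -/
theorem cl_eq_sum (x₀ : Spec (CommRingCat.of A0)) (H : Over (Spec (CommRingCat.of k)))
    (Z : HilbD.Obj (fA k A0) d H) (hZ : HilbD.IsUniversal (fA k A0) d H Z)
    [LocallyOfFiniteType H.hom] [QuasiCompact H.hom] (HP : Scheme.{u}) (ι : HP ⟶ H.left)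
    [IsClosedImmersion ι]
    (hι : Set.range ι = {h | ∀ z : Z.1.subscheme,
      (Z.1.subschemeι ≫ pullback.snd (fA k A0) H.hom) z = h →
        (Z.1.subschemeι ≫ pullback.fst (fA k A0) H.hom) z = x₀})
    {σ : Type*} [Fintype σ] (R Q : σ → Type u) [∀ i, CommRing (R i)] [∀ i, IsReduced (R i)]
    [∀ i, CommRing (Q i)] (κ : ∀ i, k →+* R i) (hκ : ∀ i, (κ i).FiniteType)
    (β : ∀ i, R i →+* Q i) (a : ∀ i, A0 →+* Q i)
    (hk : ∀ i, (a i).comp (algebraMap k A0) = (β i).comp (κ i)) (w : ∀ _ : σ, Fin d → A0)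
    (hw : ∀ i, RBas (β i) (fun j => a i (w i j)))
    (hs : ∀ i (p : PrimeSpectrum (Q i)), PrimeSpectrum.comap (a i) p = x₀)
    (hex : ∀ (K Q' : Type u) [Field K] [CommRing Q'] (κ' : k →+* K) (β' : K →+* Q') (a' : A0 →+* Q'),
      IsPunct x₀ d κ' β' a' → ∃! q : Σ i, (R i →+* K), q.2.comp (κ q.1) = κ' ∧
        ∃ ψ : Q q.1 →+* Q', ψ.comp (a q.1) = a' ∧ ψ.comp (β q.1) = β'.comp q.2) :
    K0Var.cl (ι ≫ H.hom) = ∑ i, (haveI : LocallyOfFiniteType (Spec.map (CommRingCat.ofHom (κ i))) :=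
        (HasRingHomProperty.Spec_iff (P := @LocallyOfFiniteType)).mpr (hκ i)
      K0Var.cl (Spec.map (CommRingCat.ofHom (κ i)))) := by
  have hft : ∀ i, LocallyOfFiniteType (Spec.map (CommRingCat.ofHom (κ i))) := fun i =>
    (HasRingHomProperty.Spec_iff (P := @LocallyOfFiniteType)).mpr (hκ i)
  choose x hx using fun i => exists_fam (κ i) (β i) (a i) (hk i) (w i) (hw i)
  choose g hg _ using fun i => hZ (TR (κ i)) (x i)
  have hg' : ∀ i, pullObj (fA k A0) (g i) Z = x i := fun i => Subtype.ext (hg i)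
  -- factorization through `HP`
  have hrange : ∀ i, Set.range (g i).left ⊆ Set.range ι := by
    rintro i _ ⟨t, rfl⟩
    rw [hι]
    have h9 : ∀ z, pr (pullObj (fA k A0) (g i) Z) z = x₀ := by
      rw [hg']
      exact supp_fam (x i) (hx i) x₀ (hs i)
    exact (supp_pull (f := fA k A0) x₀ (g i) Z t).mp fun z _ => h9 z
  have hlift : ∀ i, ∃ l : Spec (CommRingCat.of (R i)) ⟶ HP, l ≫ ι = (g i).left := fun i => by
    have : _root_.IsReduced (CommRingCat.of (R i)) := inferInstanceAs (_root_.IsReduced (R i))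
    exact exists_lift_closed ι (T := Spec (CommRingCat.of (R i))) (g i).left (hrange i)
  choose l hl using hlift
  have hlH : ∀ i, l i ≫ ι ≫ H.hom = Spec.map (CommRingCat.ofHom (κ i)) := fun i => by
    rw [← Category.assoc, hl i]
    exact Over.w (g i)
  have hHP : NoetherianSpace HP := K928.Fibration.noetherianSpace_of_field (ι ≫ H.hom)
  have hlft : ∀ i, LocallyOfFiniteType (l i) := fun i => by
    have : LocallyOfFiniteType (l i ≫ ι ≫ H.hom) := by rw [hlH]; exact hft i
    exact locallyOfFiniteType_of_comp (l i) (ι ≫ H.hom)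
  have hlqc : ∀ i, QuasiCompact (l i) := fun i => by
    have : NoetherianSpace (Spec (CommRingCat.of (R i))) :=
      K928.Fibration.noetherianSpace_of_field (Spec.map (CommRingCat.ofHom (κ i)))
    exact ⟨fun V _ _ => NoetherianSpace.isCompact _⟩
  have hlsep : ∀ i, IsSeparated (l i) := fun i => by
    have : IsSeparated (l i ≫ ι ≫ H.hom) := by rw [hlH]; infer_instance
    exact IsSeparated.of_comp (l i) (ι ≫ H.hom)
  rw [K0Bij.cl_eq_sum_of_points (ι ≫ H.hom) (fun i => Spec (CommRingCat.of (R i))) l]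
  · refine Finset.sum_congr rfl fun i _ => ?_
    exact K0Var.cl_congr _ _ (Iso.refl _) (by
      rw [Iso.refl_hom, Category.id_comp]; exact (hlH i).symm)
  intro K _ y
  -- the structure map of `K`
  obtain ⟨κ', hκ'⟩ : ∃ κ' : k →+* K, Spec.map (CommRingCat.ofHom κ') = y ≫ ι ≫ H.hom :=
    ⟨(Spec.preimage (y ≫ ι ≫ H.hom)).hom, Spec.map_preimage _⟩
  let y' : TR κ' ⟶ H := Over.homMk (y ≫ ι) (by rw [Category.assoc]; exact hκ'.symm)
  have hy' : y'.left = y ≫ ι := rfl
  obtain ⟨X, hX⟩ : ∃ X, X = pullObj (fA k A0) y' Z := ⟨_, rfl⟩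
  have hsupp : ∀ z, pr X z = x₀ := by
    intro z
    have h1 : ι (y (sm X z)) ∈ Set.range ι := ⟨_, rfl⟩
    rw [hι] at h1
    have h2 := (supp_pull (f := fA k A0) x₀ y' Z (sm X z)).mpr h1
    rw [← hX] at h2
    exact h2 z rfl
  have hP := isPunct X x₀ hsupp
  -- translation of lifts
  have key : ∀ (i : σ) (φ : R i →+* K), Spec.map (CommRingCat.ofHom φ) ≫ l i = y ↔
      (φ.comp (κ i) = κ' ∧ ∃ ψ : Q i →+* algOf X, ψ.comp (a i) = (augOf X).hom ∧
        ψ.comp (β i) = (strOf X).hom.comp φ) := by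
    intro i φ
    constructor
    · intro h
      have h1 : Spec.map (CommRingCat.ofHom φ) ≫ Spec.map (CommRingCat.ofHom (κ i)) =
          Spec.map (CommRingCat.ofHom κ') := by
        rw [hκ', ← h, Category.assoc, hlH]
      have h2 : φ.comp (κ i) = κ' := by
        rw [← Spec.map_comp] at h1
        exact congrArg CommRingCat.Hom.hom (Spec.map_injective h1)
      refine ⟨h2, ?_⟩
      let g' : TR κ' ⟶ TR (κ i) := Over.homMk (Spec.map (CommRingCat.ofHom φ)) h1
      refine (pullObj_eq_iff X (hw i) (x i) (hx i) φ g' rfl).mp ?_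
      rw [← hg' i, ← pullObj_comp, hX]
      congr 1
      ext1
      change Spec.map (CommRingCat.ofHom φ) ≫ (g i).left = y ≫ ι
      rw [← hl i, ← Category.assoc, h]
    · rintro ⟨h2, h3⟩
      have h1 : Spec.map (CommRingCat.ofHom φ) ≫ Spec.map (CommRingCat.ofHom (κ i)) =
          Spec.map (CommRingCat.ofHom κ') := by
        rw [← Spec.map_comp, ← CommRingCat.ofHom_comp, h2]
      let g' : TR κ' ⟶ TR (κ i) := Over.homMk (Spec.map (CommRingCat.ofHom φ)) h1
      have h4 := (pullObj_eq_iff X (hw i) (x i) (hx i) φ g' rfl).mpr h3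
      rw [← hg' i, ← pullObj_comp, hX] at h4
      have h5 := hom_ext_of_isUniversal hZ (congrArg Subtype.val h4)
      have h6 : Spec.map (CommRingCat.ofHom φ) ≫ (g i).left = y ≫ ι := congrArg (fun e => e.left) h5
      rw [← hl i, ← Category.assoc] at h6
      exact (cancel_mono ι).mp h6
  obtain ⟨⟨i, φ⟩, hq, huniq⟩ := hex K (algOf X) κ' (strOf X).hom (augOf X).hom hP
  refine ⟨⟨i, Spec.map (CommRingCat.ofHom φ)⟩, (key i φ).mpr hq, ?_⟩
  rintro ⟨j, z⟩ hz
  obtain ⟨φ', rfl⟩ : ∃ φ' : R j →+* K, Spec.map (CommRingCat.ofHom φ') = z :=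
    ⟨(Spec.preimage z).hom, Spec.map_preimage _⟩
  have h7 := huniq ⟨j, φ'⟩ ((key j φ').mp hz)
  cases h7
  rfl

end Fam

end K940.HilbStrata
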