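import Groth.Agent.HilbZeta.K940.ClAff
import Groth.Agent.HilbZeta.K940.FlagFam
import Groth.Agent.HilbZeta.K940.HilbStrata
import Mathlib.RingTheory.MvPolynomial.Basic
import Mathlib.RingTheory.MvPolynomial.Ideal
import Mathlib.RingTheory.Nilpotent.Lemmas

/-!
# The class of the punctual Hilbert schemes of `k[x, y]` and `k[x, y]/(y^n)`
-/

set_option autoImplicit false
set_option backward.isDefEq.respectTransparency false
universe u

open CategoryTheory CategoryTheory.Limits AlgebraicGeometry TopologicalSpace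

namespace K940.HZFlag
open Polynomial Groth.Agent.Picfga.HilbChartAlg K940.HilbStrata K940.ClAff

section

variable {k : Type u} [Field k]

/-- `k[x, y] → R[x][y]`. -/
noncomputable def theta {R : Type u} [CommRing R] (κ : k →+* R) :
    MvPolynomial (Fin 2) k →+* R[X][X] :=
  MvPolynomial.eval₂Hom ((C.comp C).comp κ) ![C X, X]

theorem theta_C {R : Type u} [CommRing R] (κ : k →+* R) (r : k) :
    theta κ (MvPolynomial.C r) = C (C (κ r)) := by
  rw [theta, MvPolynomial.eval₂Hom_C]; rfl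

theorem theta_X0 {R : Type u} [CommRing R] (κ : k →+* R) :
    theta κ (MvPolynomial.X 0) = C X := by
  rw [theta, MvPolynomial.eval₂Hom_X']; rfl

theorem theta_X1 {R : Type u} [CommRing R] (κ : k →+* R) :
    theta κ (MvPolynomial.X 1) = X := by
  rw [theta, MvPolynomial.eval₂Hom_X']; rfl

theorem evXY_theta {R : Type u} [CommRing R] (κ : k →+* R) {Q' : Type u} [CommRing Q']
    (β' : R →+* Q') (f : MvPolynomial (Fin 2) k →+* Q')
    (hf : ∀ r, f (MvPolynomial.C r) = β' (κ r)) :
    (evXY β' (f (MvPolynomial.X 0)) (f (MvPolynomial.X 1))).comp (theta κ) = f := by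
  refine MvPolynomial.ringHom_ext ?_ ?_
  · intro r
    rw [RingHom.comp_apply, theta_C, evXY_C_C, hf]
  · intro i
    fin_cases i
    · change evXY _ _ _ (theta κ (MvPolynomial.X 0)) = f (MvPolynomial.X 0)
      rw [theta_X0, evXY_C_X]
    · change evXY _ _ _ (theta κ (MvPolynomial.X 1)) = f (MvPolynomial.X 1)
      rw [theta_X1, evXY_X]

variable {A0 : Type u} [CommRing A0] [Algebra k A0] (pr : MvPolynomial (Fin 2) k →ₐ[k] A0)
  (hpr : Function.Surjective pr) (n d : ℕ)
  (hker : ∀ f, pr f = 0 → f ∈ Ideal.span {(MvPolynomial.X 1 : MvPolynomial (Fin 2) k) ^ n})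

/-- a ring map out of a quotient of a ring, generic form -/
theorem exists_lift_surj {P A Q : Type u} [CommRing P] [CommRing A] [CommRing Q] (p : P →+* A)
    (hp : Function.Surjective p) (F : P →+* Q) (h : ∀ f, p f = 0 → F f = 0) :
    ∃ a : A →+* Q, ∀ f, a (p f) = F f :=
  ⟨RingHom.liftOfSurjective p hp ⟨F, fun f hf => h f hf⟩,
    fun f => RingHom.liftOfRightInverse_comp_apply _ _ _ _ f⟩

include hker hpr in
theorem exists_aa {R : Type u} [CommRing R] (κ : k →+* R) (c : ℕ → ℕ) (V : ℕ → ℕ → R[X]) :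
    ∃ a : A0 →+* Qt c V n, ∀ f, a (pr f) = Ideal.Quotient.mk (I c V n) (theta κ f) := by
  let F : MvPolynomial (Fin 2) k →+* Qt c V n := (Ideal.Quotient.mk (I c V n)).comp (theta κ)
  refine exists_lift_surj (Q := Qt c V n) pr.toRingHom hpr F ?_
  intro f hf
  obtain ⟨g, rfl⟩ := Ideal.mem_span_singleton'.mp (hker f hf)
  change Ideal.Quotient.mk (I c V n) (theta κ _) = 0
  rw [Ideal.Quotient.eq_zero_iff_mem, map_mul, map_pow, theta_X1]
  exact Ideal.mul_mem_left _ _ (X_pow_mem _ _ n)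

/-- the primes containing `I c V n` contain `x`, `y`. -/
theorem mem_of_prime {R : Type u} [CommRing R] (c : ℕ → ℕ) (V : ℕ → ℕ → R[X])
    (P : Ideal R[X][X]) (hP : P.IsPrime) (h : I c V n ≤ P) : C X ∈ P ∧ X ∈ P := by
  have hy : X ∈ P := hP.mem_of_pow_mem n (h (X_pow_mem c V n))
  refine ⟨?_, hy⟩
  have h1 : (g c V n - C ((g c V n).coeff 0)).coeff 0 = 0 := by
    rw [coeff_sub, coeff_C_zero, sub_self]
  obtain ⟨f, hf⟩ := X_dvd_iff.mpr h1
  have h2 : C (X ^ b c n) ∈ P := by
    have h3 : C (X ^ b c n) = g c V n - X * f := by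
      rw [← hf, sub_sub_cancel, coeff_zero_g]
    rw [h3]
    exact P.sub_mem (h (g_mem c V n)) (P.mul_mem_right _ hy)
  rw [map_pow] at h2
  exact hP.mem_of_pow_mem _ h2

/-- the primes of `R[x][y] / I c V n` lie over the origin -/
theorem comap_prime {R : Type u} [CommRing R] (c : ℕ → ℕ) (V : ℕ → ℕ → R[X])
    (p : PrimeSpectrum (Qt c V n)) :
    Ideal.Quotient.mk (I c V n) (C X) ∈ p.asIdeal ∧ Ideal.Quotient.mk (I c V n) X ∈ p.asIdeal := by
  refine mem_of_prime n c V (p.asIdeal.comap (Ideal.Quotient.mk (I c V n)))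
    (Ideal.IsPrime.comap _) fun f hf => ?_
  rw [Ideal.mem_comap, Ideal.Quotient.eq_zero_iff_mem.mpr hf]
  exact Submodule.zero_mem _

/-- an ideal of `A0` is the origin if it contains the coordinates -/
theorem eq_origin (hpr : Function.Surjective pr) (x₀ : PrimeSpectrum A0)
    (hx₀ : x₀.asIdeal = Ideal.map pr.toRingHom (Ideal.span (Set.range MvPolynomial.X)))
    (p : PrimeSpectrum A0) (h0 : pr (MvPolynomial.X 0) ∈ p.asIdeal)
    (h1 : pr (MvPolynomial.X 1) ∈ p.asIdeal) : p = x₀ := by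
  have hle : x₀.asIdeal ≤ p.asIdeal := by
    rw [hx₀, Ideal.map_le_iff_le_comap, Ideal.span_le]
    rintro _ ⟨i, rfl⟩
    fin_cases i
    · exact h0
    · exact h1
  have hmax : x₀.asIdeal.IsMaximal := by
    rw [hx₀]
    have h2 : (Ideal.span (Set.range (MvPolynomial.X : Fin 2 → MvPolynomial (Fin 2) k))).IsMaximal := by
      have h3 : Ideal.span (Set.range (MvPolynomial.X : Fin 2 → MvPolynomial (Fin 2) k)) =
          RingHom.ker (MvPolynomial.constantCoeff (R := k) (σ := Fin 2)) := by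
        ext f
        rw [← Set.image_univ, MvPolynomial.mem_ideal_span_X_image, RingHom.mem_ker,
          MvPolynomial.constantCoeff_eq]
        constructor
        · intro h
          by_contra hne
          obtain ⟨i, _, hi⟩ := h 0 (MvPolynomial.mem_support_iff.mpr hne)
          exact hi rfl
        · intro h m hm
          by_contra hcon
          have hm0 : m = 0 := by
            ext i
            by_contra hi
            exact hcon ⟨i, Set.mem_univ _, hi⟩
          rw [hm0, MvPolynomial.mem_support_iff] at hm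
          exact hm h
      rw [h3]
      exact RingHom.ker_isMaximal_of_surjective _ (fun r => ⟨MvPolynomial.C r, by simp⟩)
    rcases Ideal.map_eq_top_or_isMaximal_of_surjective pr.toRingHom hpr h2 with h | h
    · exact absurd (by rw [hx₀, h]) x₀.2.ne_top
    · exact h
  exact (PrimeSpectrum.ext (hmax.eq_of_le p.2.ne_top hle)).symm

/-- the base rings of the families -/
abbrev RR (k : Type u) [Field k] (n d : ℕ) (c : Sg n d) : Type u := MvPolynomial (Par (ext0 c.1) n) k

/-- the data of the universal families -/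
noncomputable abbrev VV (k : Type u) [Field k] (n d : ℕ) (c : Sg n d) : ℕ → ℕ → (RR k n d c)[X] :=
  Vof (ext0 c.1) n (fun p => (MvPolynomial.X p : MvPolynomial (Par (ext0 c.1) n) k))

/-- the total rings of the families -/
abbrev QQ (k : Type u) [Field k] (n d : ℕ) (c : Sg n d) : Type u := Qt (ext0 c.1) (VV k n d c) n

section Key

variable {K Q' : Type u} [Field K] [CommRing Q'] {κ' : k →+* K} {β' : K →+* Q'} {a' : A0 →+* Q'}

theorem evXY_aug (hcomm : a'.comp (algebraMap k A0) = β'.comp κ') :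
    (evXY β' (a' (pr (MvPolynomial.X 0))) (a' (pr (MvPolynomial.X 1)))).comp (theta κ') =
      a'.comp pr.toRingHom :=
  evXY_theta κ' β' (a'.comp pr.toRingHom) (fun r => by
    change a' (pr (algebraMap k _ r)) = _
    rw [pr.commutes]
    exact congr($(hcomm) r))

theorem surj_evXY (hcomm : a'.comp (algebraMap k A0) = β'.comp κ') (hpr : Function.Surjective pr)
    {u : Fin d → A0} (hu : RBas β' (fun j => a' (u j))) :
    Function.Surjective (evXY β' (a' (pr (MvPolynomial.X 0))) (a' (pr (MvPolynomial.X 1)))) := by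
  intro q
  obtain ⟨b, hb⟩ := hu.2 q
  choose f hf using fun j => hpr (u j)
  refine ⟨∑ j, C (C (b j)) * theta κ' (f j), ?_⟩
  rw [map_sum, ← hb]
  refine Finset.sum_congr rfl fun j _ => ?_
  rw [map_mul, evXY_C_C]
  congr 1
  have := congr($(evXY_aug pr hcomm) (f j))
  rw [RingHom.comp_apply] at this
  rw [this]
  change a' (pr (f j)) = _
  rw [hf]

theorem key_iff (hpr : Function.Surjective pr) (hcomm : a'.comp (algebraMap k A0) = β'.comp κ')
    (c : ℕ → ℕ) {R : Type u} [CommRing R] (κ : k →+* R) (v : Par c n → R)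
    (a : A0 →+* Qt c (Vof c n v) n)
    (ha : ∀ f, a (pr f) = Ideal.Quotient.mk (I c (Vof c n v) n) (theta κ f))
    (φ : R →+* K) (hφ : φ.comp κ = κ') :
    (∃ ψ : Qt c (Vof c n v) n →+* Q', ψ.comp a = a' ∧
      ψ.comp (bet c (Vof c n v) n) = β'.comp φ) ↔
      ∀ f ∈ I c (Vof c n (fun p => φ (v p))) n,
        evXY β' (a' (pr (MvPolynomial.X 0))) (a' (pr (MvPolynomial.X 1))) f = 0 := by
  have hV : (fun i j => (Vof c n v i j).map φ) = Vof c n (fun p => φ (v p)) := by
    funext i j; exact map_Vof c n φ v i j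
  constructor
  · rintro ⟨ψ, h1, h2⟩
    have h3 : ψ.comp (Ideal.Quotient.mk (I c (Vof c n v) n)) =
        (evXY β' (a' (pr (MvPolynomial.X 0))) (a' (pr (MvPolynomial.X 1)))).comp (mapXY φ) := by
      rw [evXY_mapXY]
      refine ringHom_ext_XY ?_ ?_ ?_
      · intro r
        rw [evXY_C_C]
        exact congr($(h2) r)
      · rw [evXY_C_X, ← h1, RingHom.comp_apply, RingHom.comp_apply, ha, theta_X0]
      · rw [evXY_X, ← h1, RingHom.comp_apply, RingHom.comp_apply, ha, theta_X1]
    have h4 : I c (Vof c n (fun p => φ (v p))) n ≤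
        RingHom.ker (evXY β' (a' (pr (MvPolynomial.X 0))) (a' (pr (MvPolynomial.X 1)))) := by
      rw [I_le_iff]
      intro j hj
      have h5 : X ^ (n - j) * g c (Vof c n (fun p => φ (v p))) j =
          mapXY φ (X ^ (n - j) * g c (Vof c n v) j) := by
        rw [map_mul, map_pow, mapXY_X, mapXY_g, hV]
      rw [h5, RingHom.mem_ker, ← RingHom.comp_apply, ← h3, RingHom.comp_apply,
        Ideal.Quotient.eq_zero_iff_mem.mpr (X_pow_mul_g_mem c (Vof c n v) hj), map_zero]
    intro f hf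
    exact h4 hf
  · intro h
    have h1 : ∀ f ∈ I c (Vof c n v) n, evXY (β'.comp φ) (a' (pr (MvPolynomial.X 0)))
        (a' (pr (MvPolynomial.X 1))) f = 0 := by
      intro f hf
      have h2 := mapXY_mem φ c (Vof c n v) n f hf
      rw [hV] at h2
      have h3 := h _ h2
      rwa [← RingHom.comp_apply, evXY_mapXY] at h3
    refine ⟨Ideal.Quotient.lift (I c (Vof c n v) n) _ h1, ?_, ?_⟩
    · ext t
      obtain ⟨f, rfl⟩ := hpr t
      rw [RingHom.comp_apply, ha, Ideal.Quotient.lift_mk]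
      have h4 : (evXY (β'.comp φ) (a' (pr (MvPolynomial.X 0))) (a' (pr (MvPolynomial.X 1)))).comp
          (theta κ) = a'.comp pr.toRingHom :=
        evXY_theta κ (β'.comp φ) (a'.comp pr.toRingHom) (fun r => by
          change a' (pr (algebraMap k _ r)) = _
          rw [pr.commutes]
          have h5 := congr($(hcomm) r)
          rw [← hφ] at h5
          exact h5)
      exact congr($(h4) f)
    · ext r
      rw [RingHom.comp_apply, bet_apply, Ideal.Quotient.lift_mk, evXY_C_C]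

theorem hex_flag (hpr : Function.Surjective pr) (x₀ : PrimeSpectrum A0)
    (h0 : pr (MvPolynomial.X 0) ∈ x₀.asIdeal)
    (h : IsPunct x₀ d κ' β' a') (hyn : (a' (pr (MvPolynomial.X 1))) ^ n = 0)
    (a : ∀ c, A0 →+* QQ k n d c)
    (ha : ∀ c f, a c (pr f) =
      Ideal.Quotient.mk (I (ext0 c.1) (VV k n d c) n) (theta MvPolynomial.C f)) :
    ∃! q : Σ c : Sg n d, (RR k n d c →+* K), q.2.comp MvPolynomial.C = κ' ∧
      ∃ ψ : QQ k n d q.1 →+* Q', ψ.comp (a q.1) = a' ∧
        ψ.comp (bet (ext0 q.1.1) (VV k n d q.1) n) = β'.comp q.2 := by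
  obtain ⟨u, hu⟩ := h.bas
  have hnil : IsNilpotent (a' (pr (MvPolynomial.X 0))) := by
    rw [nilpotent_iff_mem_prime]
    intro J hJ
    have h1 := h.supp ⟨J, hJ⟩
    have h2 := h0
    rw [← h1] at h2
    exact h2
  obtain ⟨⟨c, v⟩, hv, huniq⟩ := exists_unique_flag n d β' _ _ (surj_evXY pr d h.comm hpr hu)
    (fun j => a' (u j)) hu hnil hyn
  refine ⟨⟨c, MvPolynomial.eval₂Hom κ' v⟩, ⟨?_, ?_⟩, ?_⟩
  · ext r
    simp
  · refine (key_iff pr n hpr h.comm (ext0 c.1) MvPolynomial.C _ (a c) (ha c)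
      (MvPolynomial.eval₂Hom κ' v) ?_).mpr ?_
    · ext r
      simp
    · simp only [MvPolynomial.eval₂Hom_X']
      exact hv
  · rintro ⟨c', φ'⟩ ⟨h1, h2⟩
    have h3 := (key_iff pr n hpr h.comm (ext0 c'.1) MvPolynomial.C _ (a c') (ha c') φ' h1).mp h2
    have h4 := huniq ⟨c', fun p => φ' (MvPolynomial.X p)⟩ h3
    obtain rfl : c' = c := congrArg Sigma.fst h4
    have h5 : (fun p => φ' (MvPolynomial.X p)) = v := eq_of_heq (Sigma.mk.inj h4).2
    congr 1
    refine MvPolynomial.ringHom_ext (fun r => ?_) (fun p => ?_)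
    · rw [← RingHom.comp_apply, h1]
      simp
    · rw [← h5]
      simp

end Key

theorem aa_comm {R : Type u} [CommRing R] (κ : k →+* R) (c : ℕ → ℕ) (V : ℕ → ℕ → R[X])
    (a : A0 →+* Qt c V n) (ha : ∀ f, a (pr f) = Ideal.Quotient.mk (I c V n) (theta κ f)) :
    a.comp (algebraMap k A0) = (bet c V n).comp κ := by
  ext r
  have h1 := ha (MvPolynomial.C r)
  rw [theta_C] at h1
  have h2 : pr (MvPolynomial.C r) = algebraMap k A0 r := pr.commutes r
  rw [h2] at h1
  exact h1

theorem aa_mon {R : Type u} [CommRing R] (κ : k →+* R) (c : ℕ → ℕ) (V : ℕ → ℕ → R[X])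
    (a : A0 →+* Qt c V n) (ha : ∀ f, a (pr f) = Ideal.Quotient.mk (I c V n) (theta κ f))
    (j : Idx c n) :
    a (pr (MvPolynomial.X 0 ^ (j.2 : ℕ) * MvPolynomial.X 1 ^ (j.1 : ℕ))) =
      Ideal.Quotient.mk (I c V n) (mon c n j) := by
  rw [ha, mon, map_mul, map_pow, map_pow, theta_X0, theta_X1, map_pow]

theorem aa_supp (hpr : Function.Surjective pr) {R : Type u} [CommRing R] (κ : k →+* R)
    (c : ℕ → ℕ) (V : ℕ → ℕ → R[X])
    (a : A0 →+* Qt c V n) (ha : ∀ f, a (pr f) = Ideal.Quotient.mk (I c V n) (theta κ f))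
    (x₀ : PrimeSpectrum A0)
    (hx₀ : x₀.asIdeal = Ideal.map pr.toRingHom (Ideal.span (Set.range MvPolynomial.X)))
    (p : PrimeSpectrum (Qt c V n)) : PrimeSpectrum.comap a p = x₀ := by
  obtain ⟨h1, h2⟩ := comap_prime n c V p
  refine eq_origin pr hpr x₀ hx₀ _ ?_ ?_
  · change a (pr (MvPolynomial.X 0)) ∈ p.asIdeal
    rw [ha, theta_X0]
    exact h1
  · change a (pr (MvPolynomial.X 1)) ∈ p.asIdeal
    rw [ha, theta_X1]
    exact h2

theorem bijective_comp_equiv {R Q : Type u} [CommRing R] [CommRing Q] (β : R →+* Q) {ι : Type}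
    [Fintype ι] {d : ℕ} (e : Fin d ≃ ι) (v : ι → Q)
    (h : Function.Bijective (fun b : ι → R => ∑ i, β (b i) * v i)) :
    RBas β (fun j => v (e j)) := by
  have h1 : (fun b : Fin d → R => ∑ j, β (b j) * v (e j)) =
      (fun b : ι → R => ∑ i, β (b i) * v i) ∘ (fun b i => b (e.symm i)) := by
    funext b
    rw [Function.comp_apply]
    refine Fintype.sum_equiv e _ _ fun j => ?_
    dsimp only
    rw [e.symm_apply_apply]
  change Function.Bijective (fun b : Fin d → R => ∑ j, β (b j) * v (e j))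
  rw [h1]
  exact h.comp (e.arrowCongr (Equiv.refl R)).bijective

theorem rBas_mon {R : Type u} [CommRing R] (c : ℕ → ℕ) (V : ℕ → ℕ → R[X]) (e : Fin d ≃ Idx c n) :
    RBas (bet c V n) (fun j => Ideal.Quotient.mk (I c V n) (mon c n (e j))) :=
  bijective_comp_equiv (bet c V n) e (fun p => Ideal.Quotient.mk (I c V n) (mon c n p))
    (bijective_mon c V n)

/-- **The class of the punctual Hilbert scheme** of a quotient of the plane by (at most) a power of
`y`. -/
theorem cl_punctual (hpr : Function.Surjective pr)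
    (hker : ∀ f, pr f = 0 → f ∈ Ideal.span {(MvPolynomial.X 1 : MvPolynomial (Fin 2) k) ^ n})
    (x₀ : Spec (CommRingCat.of A0))
    (hx₀ : x₀.asIdeal = Ideal.map pr.toRingHom (Ideal.span (Set.range MvPolynomial.X)))
    (hyn : ∀ (K Q' : Type u) [Field K] [CommRing Q'] (κ' : k →+* K) (β' : K →+* Q')
      (a' : A0 →+* Q'), IsPunct x₀ d κ' β' a' → (a' (pr (MvPolynomial.X 1))) ^ n = 0)
    (H : Over (Spec (CommRingCat.of k)))
    (Z : HilbD.Obj (fA k A0) d H) (hZ : HilbD.IsUniversal (fA k A0) d H Z)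
    [LocallyOfFiniteType H.hom] [QuasiCompact H.hom] (HP : Scheme.{u}) (ι : HP ⟶ H.left)
    [IsClosedImmersion ι]
    (hι : Set.range ι = {h | ∀ z : Z.1.subscheme,
      (Z.1.subschemeι ≫ pullback.snd (fA k A0) H.hom) z = h →
        (Z.1.subschemeι ≫ pullback.fst (fA k A0) H.hom) z = x₀}) :
    K0Var.cl (ι ≫ H.hom) =
      ∑ c : Sg n d, K0Var.L (Spec (CommRingCat.of k)) ^ Fintype.card (Par (ext0 c.1) n) := by
  choose a ha using fun c : Sg n d => exists_aa pr hpr n hker
    (MvPolynomial.C : k →+* RR k n d c) (ext0 c.1) (VV k n d c)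
  have e : ∀ c : Sg n d, Fin d ≃ Idx (ext0 c.1) n := fun c =>
    (finCongr (card_Idx_Sg c).symm).trans (Fintype.equivFin (Idx (ext0 c.1) n)).symm
  have hft : ∀ c : Sg n d, (MvPolynomial.C : k →+* RR k n d c).FiniteType := fun c =>
    finiteType_algebraMap (k := k) (R := RR k n d c)
  have hw : ∀ c : Sg n d, RBas (bet (ext0 c.1) (VV k n d c) n) (fun j => a c
      (pr (MvPolynomial.X 0 ^ ((e c j).2 : ℕ) * MvPolynomial.X 1 ^ ((e c j).1 : ℕ)))) := by
    intro c
    have h1 := rBas_mon n d (ext0 c.1) (VV k n d c) (e c)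
    have h2 : (fun j => a c (pr (MvPolynomial.X 0 ^ ((e c j).2 : ℕ) *
        MvPolynomial.X 1 ^ ((e c j).1 : ℕ)))) =
        fun j => Ideal.Quotient.mk (I (ext0 c.1) (VV k n d c) n) (mon (ext0 c.1) n (e c j)) := by
      funext j
      exact aa_mon pr n _ _ _ (a c) (ha c) (e c j)
    rw [h2]
    exact h1
  have hmain := cl_eq_sum x₀ H Z hZ HP ι hι (RR k n d) (QQ k n d) (fun c => MvPolynomial.C) hft
    (fun c => bet (ext0 c.1) (VV k n d c) n) a
    (fun c => aa_comm pr n _ _ _ (a c) (ha c))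
    (fun c j => pr (MvPolynomial.X 0 ^ ((e c j).2 : ℕ) * MvPolynomial.X 1 ^ ((e c j).1 : ℕ))) hw
    (fun c p => aa_supp pr n hpr _ _ _ (a c) (ha c) x₀ hx₀ p)
    (fun K Q' _ _ κ' β' a' hP => hex_flag pr n d hpr x₀ (by
      rw [hx₀]
      exact Ideal.mem_map_of_mem pr.toRingHom (Ideal.subset_span ⟨0, rfl⟩)) hP
        (hyn K Q' κ' β' a' hP) a ha)
  rw [hmain]
  refine Finset.sum_congr rfl fun c _ => ?_
  rw [← cA_mvPolynomial' (k := k) (Par (ext0 c.1) n), cA_eq]
  rfl

end

end K940.HZFlag
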