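import Groth.Agent.HilbZeta.K940.ClAff
import Mathlib.RingTheory.LocalProperties.Reduced
import Mathlib.RingTheory.Localization.Away.Basic
import Mathlib.RingTheory.RingHom.FiniteType

/-!
# Classes of tori
-/

set_option autoImplicit false
universe u

open CategoryTheory CategoryTheory.Limits AlgebraicGeometry TopologicalSpace

namespace K940.Torus

open K928.K0Calc K940.ClAff MvPolynomial

variable (k : Type u) [Field k] {E0 : Type}

/-- coordinate ring of the torus with coordinates `T`. -/
abbrev Tor (T : Finset E0) : Type u :=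
  Localization.Away (∏ e : T, (X e : MvPolynomial T k))

/-- the coordinates -/
noncomputable def tx (T : Finset E0) (e : T) : Tor k T :=
  algebraMap (MvPolynomial T k) (Tor k T) (X e)

theorem isUnit_tx (T : Finset E0) (e : T) : IsUnit (tx k T e) := by
  have h := IsLocalization.Away.algebraMap_isUnit (S := Tor k T)
    (∏ e : T, (X e : MvPolynomial T k))
  rw [map_prod] at h
  exact (IsUnit.prod_univ_iff.mp h) e

instance finiteType_Tor (T : Finset E0) : Algebra.FiniteType k (Tor k T) := by
  have h1 : Algebra.FiniteType (MvPolynomial T k) (Tor k T) :=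
    IsLocalization.finiteType_of_monoid_fg (Submonoid.powers (∏ e : T, (X e : MvPolynomial T k))) _
  exact Algebra.FiniteType.trans (S := MvPolynomial T k) inferInstance h1

variable {k}

theorem tor_hom_ext {T : Finset E0} {K : Type*} [CommRing K] {f g : Tor k T →+* K}
    (h1 : f.comp (algebraMap k (Tor k T)) = g.comp (algebraMap k (Tor k T)))
    (h2 : ∀ e, f (tx k T e) = g (tx k T e)) : f = g := by
  refine IsLocalization.ringHom_ext (Submonoid.powers (∏ e : T, (X e : MvPolynomial T k))) ?_
  refine MvPolynomial.ringHom_ext (fun r => ?_) (fun e => h2 e)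
  exact congr($(h1) r)

theorem tor_exists {T : Finset E0} {K : Type*} [Field K] (κ : k →+* K) (v : T → K)
    (hv : ∀ e, v e ≠ 0) : ∃ f : Tor k T →+* K, f.comp (algebraMap k (Tor k T)) = κ ∧
      ∀ e, f (tx k T e) = v e := by
  have hu : IsUnit (eval₂Hom κ v (∏ e : T, (X e : MvPolynomial T k))) := by
    rw [map_prod, isUnit_iff_ne_zero, Finset.prod_ne_zero_iff]
    intro e _
    rw [eval₂Hom_X']
    exact hv e
  refine ⟨IsLocalization.Away.lift _ hu, ?_, ?_⟩
  · ext r
    rw [RingHom.comp_apply, IsScalarTower.algebraMap_apply k (MvPolynomial T k) (Tor k T),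
      IsLocalization.Away.lift_eq, MvPolynomial.algebraMap_eq, eval₂Hom_C]
  · intro e
    rw [tx, IsLocalization.Away.lift_eq, eval₂Hom_X']

/-- the map `A^F ← G_m^T`. -/
noncomputable def tl [DecidableEq E0] (F T : Finset E0) : MvPolynomial F k →+* Tor k T :=
  eval₂Hom (algebraMap k (Tor k T)) (fun e => if h : (e : E0) ∈ T then tx k T ⟨e, h⟩ else 0)

theorem tl_C [DecidableEq E0] (F T : Finset E0) :
    (tl F T).comp (algebraMap k (MvPolynomial F k)) = algebraMap k (Tor k T) := by
  ext r
  rw [RingHom.comp_apply, MvPolynomial.algebraMap_eq, tl, eval₂Hom_C]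

theorem tl_X [DecidableEq E0] (F T : Finset E0) (e : F) :
    tl F T (X e) = if h : (e : E0) ∈ T then tx k T ⟨e, h⟩ else 0 := by
  rw [tl, eval₂Hom_X']

theorem exists_unique_tor [DecidableEq E0] (F : Finset E0) {K : Type u} [Field K]
    (g : MvPolynomial F k →+* K) :
    ∃! q : Σ T : F.powerset, (Tor k T.1 →+* K), q.2.comp (tl F q.1.1) = g := by
  classical
  let T : Finset E0 := (Finset.univ.filter fun e : F => g (X e) ≠ 0).map (Function.Embedding.subtype _)
  have hT : ∀ e : F, (e : E0) ∈ T ↔ g (X e) ≠ 0 := by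
    intro e
    simp only [T, Finset.mem_map, Finset.mem_filter, Finset.mem_univ, true_and,
      Function.Embedding.subtype_apply]
    constructor
    · rintro ⟨a, ha, hae⟩
      obtain rfl : a = e := Subtype.ext hae
      exact ha
    · intro h
      exact ⟨e, h, rfl⟩
  have hTF : T ∈ F.powerset := by
    rw [Finset.mem_powerset]
    intro e he
    simp only [T, Finset.mem_map] at he
    obtain ⟨a, -, rfl⟩ := he
    exact a.2
  have hTF' : ∀ e ∈ T, e ∈ F := fun e he => (Finset.mem_powerset.mp hTF) he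
  obtain ⟨f, hf1, hf2⟩ := tor_exists (T := T) (g.comp (algebraMap k _))
    (fun e : T => g (X ⟨e, hTF' e e.2⟩)) (fun e => (hT ⟨e, hTF' e e.2⟩).mp e.2)
  refine ⟨⟨⟨T, hTF⟩, f⟩, ?_, ?_⟩
  · change f.comp (tl F T) = g
    refine MvPolynomial.ringHom_ext (fun r => ?_) (fun e => ?_)
    · rw [RingHom.comp_apply]
      have h1 := congr($(tl_C (k := k) F T) r)
      rw [RingHom.comp_apply, MvPolynomial.algebraMap_eq] at h1
      rw [h1]
      exact congr($(hf1) r)
    · rw [RingHom.comp_apply, tl_X]
      split_ifs with h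
      · rw [hf2]
      · rw [map_zero]
        by_contra hne
        exact h ((hT e).mpr (Ne.symm hne))
  · rintro ⟨⟨T', hT'F⟩, f'⟩ h'
    dsimp only at h'
    have hT'F' : ∀ e ∈ T', e ∈ F := fun e he => (Finset.mem_powerset.mp hT'F) he
    have h1 : ∀ e : F, g (X e) = if h : (e : E0) ∈ T' then f' (tx k T' ⟨e, h⟩) else 0 := by
      intro e
      rw [← h', RingHom.comp_apply, tl_X]
      split_ifs with h
      · rfl
      · exact map_zero f'
    obtain rfl : T' = T := by
      ext e
      constructor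
      · intro he
        rw [hT ⟨e, hT'F' e he⟩, h1, dif_pos he]
        exact ((isUnit_tx k T' ⟨e, he⟩).map f').ne_zero
      · intro he
        by_contra hne
        have h2 := (hT ⟨e, hTF' e he⟩).mp he
        rw [h1, dif_neg hne] at h2
        exact h2 rfl
    have h3 : f' = f := by
      refine tor_hom_ext ?_ ?_
      · rw [hf1, ← h', RingHom.comp_assoc, tl_C]
      · intro e
        rw [hf2, h1 ⟨e, hTF' e e.2⟩, dif_pos e.2]
    rw [h3]

theorem lft_of_comp {R S : Type u} [CommRing R] [CommRing S] [Algebra k R] [Algebra k S]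
    [Algebra.FiniteType k S] (f : R →+* S) (hf : f.comp (algebraMap k R) = algebraMap k S) :
    LocallyOfFiniteType (Spec.map (CommRingCat.ofHom f)) := by
  refine (HasRingHomProperty.Spec_iff (P := @LocallyOfFiniteType)).mpr ?_
  have h1 : (f.comp (algebraMap k R)).FiniteType := by
    rw [hf]; exact finiteType_algebraMap
  exact RingHom.FiniteType.of_comp_finiteType h1

theorem sum_tor [DecidableEq E0] (F : Finset E0) :
    cA k (MvPolynomial F k) = ∑ T : F.powerset, cA k (Tor k T.1) := by
  have hY : NoetherianSpace (Spec (CommRingCat.of (MvPolynomial F k))) :=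
    K928.Fibration.noetherianSpace_of_field
      (Spec.map (CommRingCat.ofHom (algebraMap k (MvPolynomial F k))))
  have hlft : ∀ T : F.powerset, LocallyOfFiniteType (Spec.map (CommRingCat.ofHom (tl (k := k) F T.1))) :=
    fun T => lft_of_comp (k := k) _ (tl_C F T.1)
  rw [cA_eq, K0Bij.cl_eq_sum_of_points (Spec.map (CommRingCat.ofHom (algebraMap k (MvPolynomial F k))))
    (fun T : F.powerset => Spec (CommRingCat.of (Tor k T.1)))
    (fun T => Spec.map (CommRingCat.ofHom (tl (k := k) F T.1)))]
  · refine Finset.sum_congr rfl fun T _ => ?_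
    rw [cA_eq]
    refine K0Var.cl_congr _ _ (Iso.refl _) ?_
    rw [Iso.refl_hom, Category.id_comp, ← Spec.map_comp, ← CommRingCat.ofHom_comp, tl_C]
  · intro K _ y
    obtain ⟨g, rfl⟩ : ∃ g : MvPolynomial F k →+* K, Spec.map (CommRingCat.ofHom g) = y :=
      ⟨(Spec.preimage y).hom, Spec.map_preimage _⟩
    obtain ⟨⟨T, f⟩, hf, huniq⟩ := exists_unique_tor F g
    refine ⟨⟨T, Spec.map (CommRingCat.ofHom f)⟩, ?_, ?_⟩
    · dsimp only at hf ⊢
      rw [← Spec.map_comp, ← CommRingCat.ofHom_comp, hf]
    · rintro ⟨T', z⟩ hz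
      obtain ⟨f', rfl⟩ : ∃ f' : Tor k T'.1 →+* K, Spec.map (CommRingCat.ofHom f') = z :=
        ⟨(Spec.preimage z).hom, Spec.map_preimage _⟩
      dsimp only at hz
      rw [← Spec.map_comp, ← CommRingCat.ofHom_comp] at hz
      have h1 := huniq ⟨T', f'⟩ (congrArg CommRingCat.Hom.hom (Spec.map_injective hz))
      cases h1
      rfl

/-- `ℤ[L]`-valued classes -/
def IsPolL (x : K0Var.K (Spec (CommRingCat.of k))) : Prop :=
  ∃ p : Polynomial ℤ, x = Polynomial.eval₂ (Int.castRingHom (K0Var.K (Spec (CommRingCat.of k))))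
    (K0Var.L (Spec (CommRingCat.of k))) p

theorem IsPolL.add {x y : K0Var.K (Spec (CommRingCat.of k))} (hx : IsPolL x) (hy : IsPolL y) :
    IsPolL (x + y) := by
  obtain ⟨p, rfl⟩ := hx
  obtain ⟨q, rfl⟩ := hy
  exact ⟨p + q, (Polynomial.eval₂_add _ _).symm⟩

theorem IsPolL.sub {x y : K0Var.K (Spec (CommRingCat.of k))} (hx : IsPolL x) (hy : IsPolL y) :
    IsPolL (x - y) := by
  obtain ⟨p, rfl⟩ := hx
  obtain ⟨q, rfl⟩ := hy
  exact ⟨p - q, (Polynomial.eval₂_sub _).symm⟩

theorem IsPolL.zero : IsPolL (0 : K0Var.K (Spec (CommRingCat.of k))) :=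
  ⟨0, (Polynomial.eval₂_zero _ _).symm⟩

theorem IsPolL.one : IsPolL (1 : K0Var.K (Spec (CommRingCat.of k))) :=
  ⟨1, (Polynomial.eval₂_one _ _).symm⟩

theorem IsPolL.sum {ι : Type*} (s : Finset ι) (x : ι → K0Var.K (Spec (CommRingCat.of k)))
    (h : ∀ i ∈ s, IsPolL (x i)) : IsPolL (∑ i ∈ s, x i) := by
  classical
  induction s using Finset.induction_on with
  | empty => rw [Finset.sum_empty]; exact IsPolL.zero
  | insert a s ha ih =>
    rw [Finset.sum_insert ha]
    exact (h a (Finset.mem_insert_self a s)).add (ih fun i hi => h i (Finset.mem_insert_of_mem hi))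

theorem IsPolL.L_pow (n : ℕ) : IsPolL (K0Var.L (Spec (CommRingCat.of k)) ^ n) :=
  ⟨Polynomial.X ^ n, by rw [Polynomial.eval₂_X_pow]⟩

/-- The class of a torus is an integral polynomial in `L`. -/
theorem isPolL_tor [DecidableEq E0] (F : Finset E0) : IsPolL (cA k (Tor k F)) := by
  induction F using Finset.strongInduction with
  | H F ih =>
    have h1 := sum_tor (k := k) F
    rw [cA_mvPolynomial', ← Finset.sum_erase_add (Finset.univ : Finset F.powerset)
      (fun T => cA k (Tor k T.1)) (Finset.mem_univ ⟨F, Finset.mem_powerset_self F⟩)] at h1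
    have h2 : cA k (Tor k F) = _ := eq_sub_iff_add_eq'.mpr h1.symm
    rw [h2]
    refine (IsPolL.L_pow _).sub (IsPolL.sum _ _ fun T hT => ?_)
    have hne : T.1 ≠ F := fun h => (Finset.ne_of_mem_erase hT) (Subtype.ext h)
    exact ih T.1 (Finset.ssubset_iff_subset_ne.mpr ⟨Finset.mem_powerset.mp T.2, hne⟩)

end K940.Torus
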