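import Groth.Agent.HilbZeta.K940.AxesClass
import Groth.Agent.HilbZeta.K940.Torus
import Groth.Agent.HilbZeta.K940.FlagHilb
import Mathlib.RingTheory.MvPolynomial.Ideal
import Mathlib.RingTheory.Nilpotent.Lemmas

/-!
# The classes of the punctual Hilbert schemes of the coordinate axes
-/

set_option autoImplicit false
set_option backward.isDefEq.respectTransparency false
universe u

open CategoryTheory CategoryTheory.Limits AlgebraicGeometry TopologicalSpace

namespace K940.Axes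
open MvPolynomial Groth.Agent.Picfga.HilbChartAlg K940.HilbStrata K940.ClAff K940.Torus K940.HZFlag

section BC

variable {R : Type u} {R' : Type u} [CommRing R] [CommRing R'] (φ : R →+* R') {N : ℕ}
  (α : Fin N → ℕ) (B : Finset (Fin N)) (M : Fin N → Fin N → R)

theorem cf_map (i : Fin N) (l : ℕ) (f : MvPolynomial (Fin N) R) :
    cf i l (map φ f) = φ (cf i l f) := coeff_map _ _ _

theorem tp_map (j : Fin N) (f : MvPolynomial (Fin N) R) :
    tp α B (fun p j => φ (M p j)) j (map φ f) = φ (tp α B M j f) := by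
  rw [tp, tp, map_add, map_sum, cf_map]
  congr 1
  refine Finset.sum_congr rfl fun p _ => ?_
  rw [cf_map, map_mul]

theorem map_mem_IA {f : MvPolynomial (Fin N) R} (hf : f ∈ IA α B M) :
    map φ f ∈ IA α B (fun p j => φ (M p j)) := by
  obtain ⟨h0, h1, h2⟩ := hf
  refine ⟨by rw [coeff_map, h0, map_zero], fun i l hl => ?_, fun j hj => ?_⟩
  · rw [cf_map, h1 i l hl, map_zero]
  · rw [tp_map, h2 j hj, map_zero]

theorem map_lin (p : Fin N) : map φ (lin α B M p) = lin α B (fun p j => φ (M p j)) p := by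
  rw [lin, lin, map_sub, map_pow, map_X, map_sum]
  congr 1
  refine Finset.sum_congr rfl fun j _ => ?_
  rw [map_mul, map_pow, map_C, map_X]

theorem map_mn (b : Bs α B) : map φ (mn α B b) = mn α B b := by
  rcases b with _ | ⟨i, l⟩ | j
  · exact map_one _
  · exact (map_pow _ _ _).trans (by rw [map_X]; rfl)
  · exact (map_pow _ _ _).trans (by rw [map_X]; rfl)

theorem be_apply (r : R) : be α B M r = Ideal.Quotient.mk (IA α B M) (C r) := rfl

end BC

section Key

variable {k : Type u} [Field k] {N : ℕ} {A0 : Type u} [CommRing A0] [Algebra k A0]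
  (pr : MvPolynomial (Fin N) k →ₐ[k] A0)

/-- an ideal of `A0` is the origin if it contains the coordinates -/
theorem eq_origin (hpr : Function.Surjective pr) (x₀ : PrimeSpectrum A0)
    (hx₀ : x₀.asIdeal = Ideal.map pr.toRingHom (Ideal.span (Set.range MvPolynomial.X)))
    (p : PrimeSpectrum A0) (h0 : ∀ i, pr (MvPolynomial.X i) ∈ p.asIdeal) : p = x₀ := by
  have hle : x₀.asIdeal ≤ p.asIdeal := by
    rw [hx₀, Ideal.map_le_iff_le_comap, Ideal.span_le]
    rintro _ ⟨i, rfl⟩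
    exact h0 i
  have hmax : x₀.asIdeal.IsMaximal := by
    rw [hx₀]
    have h2 : (Ideal.span (Set.range (MvPolynomial.X : Fin N → MvPolynomial (Fin N) k))).IsMaximal := by
      have h3 : Ideal.span (Set.range (MvPolynomial.X : Fin N → MvPolynomial (Fin N) k)) =
          RingHom.ker (MvPolynomial.constantCoeff (R := k) (σ := Fin N)) := by
        ext f
        rw [← Set.image_univ, MvPolynomial.mem_ideal_span_X_image, RingHom.mem_ker,
          MvPolynomial.constantCoeff_eq]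
        constructor
        · intro h
          by_contra hne
          obtain ⟨i, _, hi⟩ := h 0 (MvPolynomial.mem_support_iff.mpr hne)
          exact hi rfl
        · intro h m hm
          by_contra hcon
          have hm0 : m = 0 := by
            ext i
            by_contra hi
            exact hcon ⟨i, Set.mem_univ _, hi⟩
          rw [hm0, MvPolynomial.mem_support_iff] at hm
          exact hm h
      rw [h3]
      exact RingHom.ker_isMaximal_of_surjective _ (fun r => ⟨MvPolynomial.C r, by simp⟩)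
    rcases Ideal.map_eq_top_or_isMaximal_of_surjective pr.toRingHom hpr h2 with h | h
    · exact absurd (by rw [hx₀, h]) x₀.2.ne_top
    · exact h
  exact (PrimeSpectrum.ext (hmax.eq_of_le p.2.ne_top hle)).symm

variable (hpr : Function.Surjective pr)
  (hker : ∀ f, pr f = 0 → f ∈ Ideal.span {m : MvPolynomial (Fin N) k | ∃ i j : Fin N, i ≠ j ∧
    m = MvPolynomial.X i * MvPolynomial.X j})

include hpr hker in
theorem exists_aa {R : Type u} [CommRing R] (κ : k →+* R) (α : Fin N → ℕ) (B : Finset (Fin N))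
    (M : Fin N → Fin N → R) :
    ∃ a : A0 →+* Qa α B M, ∀ f, a (pr f) = Ideal.Quotient.mk (IA α B M) (map κ f) := by
  let F : MvPolynomial (Fin N) k →+* Qa α B M := (Ideal.Quotient.mk (IA α B M)).comp (map κ)
  refine exists_lift_surj (Q := Qa α B M) pr.toRingHom hpr F ?_
  intro f hf
  change Ideal.Quotient.mk (IA α B M) (map κ f) = 0
  rw [Ideal.Quotient.eq_zero_iff_mem, ← Ideal.mem_comap]
  refine (Ideal.span_le.mpr ?_) (hker f hf)
  rintro _ ⟨i, j, hij, rfl⟩
  change map κ (X i * X j) ∈ IA α B M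
  rw [map_mul, map_X, map_X]
  exact X_mul_X_mem α B M hij

theorem aa_comm {R : Type u} [CommRing R] (κ : k →+* R) (α : Fin N → ℕ) (B : Finset (Fin N))
    (M : Fin N → Fin N → R) (a : A0 →+* Qa α B M)
    (ha : ∀ f, a (pr f) = Ideal.Quotient.mk (IA α B M) (map κ f)) :
    a.comp (algebraMap k A0) = (be α B M).comp κ := by
  ext r
  have h1 := ha (MvPolynomial.C r)
  rw [map_C] at h1
  have h2 : pr (MvPolynomial.C r) = algebraMap k A0 r := pr.commutes r
  rw [h2] at h1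
  exact h1

theorem aa_mn {R : Type u} [CommRing R] (κ : k →+* R) (α : Fin N → ℕ) (B : Finset (Fin N))
    (M : Fin N → Fin N → R) (a : A0 →+* Qa α B M)
    (ha : ∀ f, a (pr f) = Ideal.Quotient.mk (IA α B M) (map κ f)) (b : Bs α B) :
    a (pr (mn α B b)) = Ideal.Quotient.mk (IA α B M) (mn α B b) := by
  rw [ha, map_mn]

theorem aa_supp (hpr : Function.Surjective pr) {R : Type u} [CommRing R] (κ : k →+* R)
    (α : Fin N → ℕ) (B : Finset (Fin N)) (M : Fin N → Fin N → R) (a : A0 →+* Qa α B M)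
    (ha : ∀ f, a (pr f) = Ideal.Quotient.mk (IA α B M) (map κ f))
    (x₀ : PrimeSpectrum A0)
    (hx₀ : x₀.asIdeal = Ideal.map pr.toRingHom (Ideal.span (Set.range MvPolynomial.X)))
    (p : PrimeSpectrum (Qa α B M)) : PrimeSpectrum.comap a p = x₀ := by
  refine eq_origin pr hpr x₀ hx₀ _ fun i => ?_
  change a (pr (MvPolynomial.X i)) ∈ p.asIdeal
  rw [ha, map_X]
  refine p.2.mem_of_pow_mem (α i + 2) ?_
  rw [← map_pow, Ideal.Quotient.eq_zero_iff_mem.mpr (X_pow_mem α B M i)]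
  exact Submodule.zero_mem _

theorem rBas_mn {R : Type u} [CommRing R] {d : ℕ} (α : Fin N → ℕ) (B : Finset (Fin N))
    (M : Fin N → Fin N → R) (e : Fin d ≃ Bs α B) :
    RBas (be α B M) (fun j => Ideal.Quotient.mk (IA α B M) (mn α B (e j))) :=
  bijective_comp_equiv (be α B M) e (fun p => Ideal.Quotient.mk (IA α B M) (mn α B p))
    (bijective_mn α B M)

variable {K Q' : Type u} [Field K] [CommRing Q'] {κ' : k →+* K} (β' : K →+* Q') (a' : A0 →+* Q')

/-- the presentation of a punctual algebra -/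
noncomputable def PhA : MvPolynomial (Fin N) K →+* Q' :=
  eval₂Hom β' (fun i => a' (pr (X i)))

theorem PhA_C (r : K) : PhA pr β' a' (C r) = β' r := eval₂Hom_C _ _ _

theorem PhA_X (i : Fin N) : PhA pr β' a' (X i) = a' (pr (X i)) := eval₂Hom_X' _ _ _

variable {β' a'}

theorem PhA_map (hcomm : a'.comp (algebraMap k A0) = β'.comp κ') :
    (PhA pr β' a').comp (map κ') = a'.comp pr.toRingHom := by
  refine MvPolynomial.ringHom_ext (fun r => ?_) (fun i => ?_)
  · rw [RingHom.comp_apply, map_C, PhA_C]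
    change _ = a' (pr (algebraMap k _ r))
    rw [pr.commutes]
    exact congr($(hcomm.symm) r)
  · rw [RingHom.comp_apply, map_X, PhA_X]
    rfl

theorem surj_PhA (hcomm : a'.comp (algebraMap k A0) = β'.comp κ') (hpr : Function.Surjective pr)
    {d : ℕ} {u : Fin d → A0} (hu : RBas β' (fun j => a' (u j))) :
    Function.Surjective (PhA pr β' a') := by
  intro q
  obtain ⟨b, hb⟩ := hu.2 q
  choose f hf using fun j => hpr (u j)
  refine ⟨∑ j, C (b j) * map κ' (f j), ?_⟩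
  rw [map_sum, ← hb]
  refine Finset.sum_congr rfl fun j _ => ?_
  rw [map_mul, PhA_C]
  congr 1
  have := congr($(PhA_map pr hcomm) (f j))
  rw [RingHom.comp_apply] at this
  rw [this]
  change a' (pr (f j)) = _
  rw [hf]

theorem key_iff (hpr : Function.Surjective pr) (hcomm : a'.comp (algebraMap k A0) = β'.comp κ')
    {R : Type u} [CommRing R] (κ : k →+* R) (α : Fin N → ℕ) (B : Finset (Fin N))
    (M : Fin N → Fin N → R) (a : A0 →+* Qa α B M)
    (ha : ∀ f, a (pr f) = Ideal.Quotient.mk (IA α B M) (map κ f))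
    (φ : R →+* K) (hφ : φ.comp κ = κ') :
    (∃ ψ : Qa α B M →+* Q', ψ.comp a = a' ∧ ψ.comp (be α B M) = β'.comp φ) ↔
      ∀ f ∈ IA α B (fun p j => φ (M p j)), PhA pr β' a' f = 0 := by
  constructor
  · rintro ⟨ψ, h1, h2⟩
    have h3 : ψ.comp (Ideal.Quotient.mk (IA α B M)) = (PhA pr β' a').comp (map φ) := by
      refine MvPolynomial.ringHom_ext (fun r => ?_) (fun i => ?_)
      · rw [RingHom.comp_apply (PhA pr β' a'), map_C, PhA_C]
        exact congr($(h2) r)
      · rw [RingHom.comp_apply (PhA pr β' a'), map_X, PhA_X, ← h1, RingHom.comp_apply,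
          RingHom.comp_apply, ha, map_X]
    have h4 : ∀ f ∈ IA α B M, PhA pr β' a' (map φ f) = 0 := by
      intro f hf
      rw [← RingHom.comp_apply, ← h3, RingHom.comp_apply, Ideal.Quotient.eq_zero_iff_mem.mpr hf,
        map_zero]
    have h5 : IA α B (fun p j => φ (M p j)) ≤ RingHom.ker (PhA pr β' a') := by
      refine IA_le _ _ _ _ (fun i j hij => ?_) (fun i => ?_) (fun p hp => ?_)
      · rw [RingHom.mem_ker]
        have := h4 _ (X_mul_X_mem α B M hij)
        rwa [map_mul, map_X, map_X] at this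
      · rw [RingHom.mem_ker]
        have := h4 _ (X_pow_mem α B M i)
        rwa [map_pow, map_X] at this
      · rw [RingHom.mem_ker]
        have := h4 _ (lin_mem α B M p hp)
        rwa [map_lin] at this
    intro f hf
    exact h5 hf
  · intro h
    refine ⟨Ideal.Quotient.lift (IA α B M) ((PhA pr β' a').comp (map φ)) (fun f hf => ?_), ?_, ?_⟩
    · rw [RingHom.comp_apply]
      exact h _ (map_mem_IA φ α B M hf)
    · ext t
      obtain ⟨f, rfl⟩ := hpr t
      rw [RingHom.comp_apply, ha, Ideal.Quotient.lift_mk, RingHom.comp_apply, map_map, hφ]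
      exact congr($(PhA_map pr hcomm) f)
    · ext r
      rw [RingHom.comp_apply, be_apply, Ideal.Quotient.lift_mk, RingHom.comp_apply, map_C, PhA_C]
      rfl

end Key

section Strata

/-- index set of the strata -/
def Sx (N d : ℕ) : Type := {s : (Fin N → Fin (d + 1)) × Finset (Fin N) × Finset (Fin N × Fin N) //
  (∀ t ∈ s.2.2, t.1 ∉ s.2.1 ∧ t.2 ∈ s.2.1 ∧ t.2 < t.1) ∧ (∀ j ∈ s.2.1, ∃ p, (p, j) ∈ s.2.2) ∧
    1 + (∑ i, (s.1 i : ℕ) + s.2.1.card) = d}

instance (N d : ℕ) : Finite (Sx N d) :=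
  inferInstanceAs (Finite {s : (Fin N → Fin (d + 1)) × Finset (Fin N) × Finset (Fin N × Fin N) //
  (∀ t ∈ s.2.2, t.1 ∉ s.2.1 ∧ t.2 ∈ s.2.1 ∧ t.2 < t.1) ∧ (∀ j ∈ s.2.1, ∃ p, (p, j) ∈ s.2.2) ∧
    1 + (∑ i, (s.1 i : ℕ) + s.2.1.card) = d})

noncomputable instance (N d : ℕ) : Fintype (Sx N d) := Fintype.ofFinite _

variable {N d : ℕ} (s : Sx N d)

/-- the exponents -/
def Sx.al (i : Fin N) : ℕ := (s.1.1 i : ℕ)

/-- the set `B` -/
def Sx.BB : Finset (Fin N) := s.1.2.1

/-- the support -/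
def Sx.TT : Finset (Fin N × Fin N) := s.1.2.2

theorem Sx.hT : ∀ t ∈ s.TT, t.1 ∉ s.BB ∧ t.2 ∈ s.BB ∧ t.2 < t.1 := s.2.1

theorem Sx.hM : ∀ j ∈ s.BB, ∃ p, (p, j) ∈ s.TT := s.2.2.1

theorem Sx.hd : 1 + (∑ i, s.al i + s.BB.card) = d := s.2.2.2

theorem Sx.ext' {s s' : Sx N d} (h1 : s.al = s'.al) (h2 : s.BB = s'.BB) (h3 : s.TT = s'.TT) :
    s = s' := by
  apply Subtype.ext
  refine Prod.ext ?_ (Prod.ext h2 h3)
  funext i
  exact Fin.ext (congrFun h1 i)

theorem card_Bs_Sx : Fintype.card (Bs s.al s.BB) = d := by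
  rw [card_Bs, s.hd]

theorem exists_Sx (α : Fin N → ℕ) (B : Finset (Fin N)) (T : Finset (Fin N × Fin N))
    (hT : ∀ t ∈ T, t.1 ∉ B ∧ t.2 ∈ B ∧ t.2 < t.1) (hM : ∀ j ∈ B, ∃ p, (p, j) ∈ T)
    (hd : 1 + (∑ i, α i + B.card) = d) : ∃ s : Sx N d, s.al = α ∧ s.BB = B ∧ s.TT = T := by
  have h1 : ∀ i, α i < d + 1 := by
    intro i
    have := Finset.single_le_sum (f := α) (fun _ _ => Nat.zero_le _) (Finset.mem_univ i)
    omega
  exact ⟨⟨⟨fun i => ⟨α i, h1 i⟩, B, T⟩, hT, hM, hd⟩, rfl, rfl, rfl⟩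

/-- the universal matrix -/
noncomputable def Mu (k : Type u) [Field k] (T : Finset (Fin N × Fin N)) (p j : Fin N) : Tor k T :=
  if h : (p, j) ∈ T then tx k T ⟨(p, j), h⟩ else 0

theorem map_Mu {k : Type u} [Field k] {K : Type*} [Field K] (T : Finset (Fin N × Fin N))
    (φ : Tor k T →+* K) (p j : Fin N) : φ (Mu k T p j) ≠ 0 ↔ (p, j) ∈ T := by
  rw [Mu]
  split_ifs with h
  · exact ⟨fun _ => h, fun _ => ((isUnit_tx k T ⟨(p, j), h⟩).map φ).ne_zero⟩
  · rw [map_zero]
    exact ⟨fun h' => absurd rfl h', fun h' => absurd h' h⟩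

variable {k : Type u} [Field k] {A0 : Type u} [CommRing A0] [Algebra k A0]
  (pr : MvPolynomial (Fin N) k →ₐ[k] A0)

theorem hex_axes (hd : 0 < d) (hpr : Function.Surjective pr)
    (h0 : ∀ i j : Fin N, i ≠ j → pr (X i * X j) = 0)
    (x₀ : PrimeSpectrum A0) (hx : ∀ i, pr (MvPolynomial.X i) ∈ x₀.asIdeal)
    {K Q' : Type u} [Field K] [CommRing Q'] {κ' : k →+* K} {β' : K →+* Q'} {a' : A0 →+* Q'}
    (h : IsPunct x₀ d κ' β' a')
    (a : ∀ s : Sx N d, A0 →+* Qa s.al s.BB (Mu k s.TT))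
    (ha : ∀ s f, a s (pr f) =
      Ideal.Quotient.mk (IA s.al s.BB (Mu k s.TT)) (map (algebraMap k (Tor k s.TT)) f)) :
    ∃! q : Σ s : Sx N d, (Tor k s.TT →+* K), q.2.comp (algebraMap k (Tor k q.1.TT)) = κ' ∧
      ∃ ψ : Qa q.1.al q.1.BB (Mu k q.1.TT) →+* Q', ψ.comp (a q.1) = a' ∧
        ψ.comp (be q.1.al q.1.BB (Mu k q.1.TT)) = β'.comp q.2 := by
  obtain ⟨u, hu⟩ := h.bas
  have hnt : Nontrivial Q' := by
    rcases subsingleton_or_nontrivial Q' with hs | hs
    · exfalso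
      have h1 := hu.1 (a₁ := fun _ => 0) (a₂ := fun _ => 1) (Subsingleton.elim _ _)
      exact zero_ne_one (congrFun h1 ⟨0, hd⟩)
    · exact hs
  have hcross : ∀ i j : Fin N, i ≠ j → PhA pr β' a' (X i) * PhA pr β' a' (X j) = 0 := by
    intro i j hij
    rw [PhA_X, PhA_X, ← map_mul, ← map_mul, h0 i j hij, map_zero]
  have hnil : ∀ i : Fin N, IsNilpotent (PhA pr β' a' (X i)) := by
    intro i
    rw [PhA_X, nilpotent_iff_mem_prime]
    intro J hJ
    have h1 := h.supp ⟨J, hJ⟩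
    have h2 := hx i
    rw [← h1] at h2
    exact h2
  have hsurj := surj_PhA pr h.comm hpr hu
  have hcomp : (PhA pr β' a').comp C = β' := by
    ext r
    exact PhA_C pr β' a' r
  obtain ⟨α, B, M, hT, hM, hI⟩ := exists_IA (PhA pr β' a') hcross hnil
  have hcard : Fintype.card (Bs α B) = d := by
    have := card_of_ker_eq C (PhA pr β' a') hsurj β' hcomp (IA α B M)
      hI _ (fun j => a' (u j)) (bijective_mn α B M) hu
    rw [this, Fintype.card_fin]
  have hmem : ∀ (s : Sx N d) (M' : Fin N → Fin N → K),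
      (∀ f ∈ IA s.al s.BB M', PhA pr β' a' f = 0) → IA s.al s.BB M' = IA α B M := by
    intro s M' h'
    rw [hI]
    exact ker_eq_of_card C (PhA pr β' a') hsurj β' hcomp
      (IA s.al s.BB M') h' _ (fun j => a' (u j)) (bijective_mn s.al s.BB M') hu
      (by rw [card_Bs_Sx, Fintype.card_fin])
  classical
  let T : Finset (Fin N × Fin N) := Finset.univ.filter fun t => M t.1 t.2 ≠ 0
  have hTmem : ∀ p j, (p, j) ∈ T ↔ M p j ≠ 0 := fun p j => by simp [T]
  rw [card_Bs] at hcard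
  obtain ⟨s, hs1, hs2, hs3⟩ := exists_Sx α B T (fun t ht => hT t.1 t.2 ((hTmem _ _).mp ht))
    (fun j hj => by
      obtain ⟨p, hp⟩ := hM j hj
      exact ⟨p, (hTmem p j).mpr hp⟩) hcard
  have hsT : ∀ p j, (p, j) ∈ s.TT ↔ M p j ≠ 0 := by
    rw [hs3]; exact hTmem
  obtain ⟨φ, hφ1, hφ2⟩ := tor_exists (T := s.TT) κ' (fun t => M t.1.1 t.1.2)
    (fun t => (hsT _ _).mp t.2)
  have hφM : (fun p j => φ (Mu k s.TT p j)) = M := by
    funext p j
    rw [Mu]
    split_ifs with h'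
    · exact hφ2 ⟨(p, j), h'⟩
    · rw [map_zero]
      by_contra hne
      exact h' ((hsT p j).mpr (Ne.symm hne))
  refine ⟨⟨s, φ⟩, ⟨hφ1, ?_⟩, ?_⟩
  · refine (key_iff pr hpr h.comm (algebraMap k (Tor k s.TT)) s.al s.BB (Mu k s.TT) (a s) (ha s) φ
      hφ1).mpr ?_
    rw [hφM, hs1, hs2, hI]
    intro f hf
    exact hf
  · rintro ⟨s', φ'⟩ ⟨h1, h2⟩
    have h3 := (key_iff pr hpr h.comm (algebraMap k (Tor k s'.TT)) s'.al s'.BB (Mu k s'.TT) (a s')
      (ha s') φ' h1).mp h2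
    have h4 := hmem s' _ h3
    obtain ⟨e1, e2, e3⟩ := IA_unique (fun p j hpj => s'.hT _ ((map_Mu s'.TT φ' p j).mp hpj)) hT
      (fun j hj => by
        obtain ⟨p, hp⟩ := s'.hM j hj
        exact ⟨p, (map_Mu s'.TT φ' p j).mpr hp⟩) hM h4
    have e4 : ∀ p j, (p, j) ∈ s'.TT ↔ M p j ≠ 0 := by
      intro p j
      rw [← map_Mu s'.TT φ' p j, ← e3]
    obtain rfl : s' = s := by
      refine Sx.ext' (by rw [hs1, e1]) (by rw [hs2, e2]) ?_
      ext ⟨p, j⟩
      rw [e4, hsT]
    congr 1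
    refine tor_hom_ext (by rw [h1, hφ1]) fun t => ?_
    rw [hφ2]
    have h5 := congrFun (congrFun e3 t.1.1) t.1.2
    rw [← h5, Mu, dif_pos t.2]

/-- **The class of the punctual Hilbert scheme** of the coordinate axes, `d > 0`. -/
theorem cl_axes (hd : 0 < d) (hpr : Function.Surjective pr)
    (h0 : ∀ i j : Fin N, i ≠ j → pr (X i * X j) = 0)
    (hker : ∀ f, pr f = 0 → f ∈ Ideal.span {m : MvPolynomial (Fin N) k | ∃ i j : Fin N, i ≠ j ∧
      m = MvPolynomial.X i * MvPolynomial.X j})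
    (x₀ : Spec (CommRingCat.of A0))
    (hx₀ : x₀.asIdeal = Ideal.map pr.toRingHom (Ideal.span (Set.range MvPolynomial.X)))
    (H : Over (Spec (CommRingCat.of k)))
    (Z : HilbD.Obj (fA k A0) d H) (hZ : HilbD.IsUniversal (fA k A0) d H Z)
    [LocallyOfFiniteType H.hom] [QuasiCompact H.hom] (HP : Scheme.{u}) (ι : HP ⟶ H.left)
    [IsClosedImmersion ι]
    (hι : Set.range ι = {h | ∀ z : Z.1.subscheme,
      (Z.1.subschemeι ≫ pullback.snd (fA k A0) H.hom) z = h →
        (Z.1.subschemeι ≫ pullback.fst (fA k A0) H.hom) z = x₀}) :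
    K0Var.cl (ι ≫ H.hom) = ∑ s : Sx N d, cA k (Tor k s.TT) := by
  choose a ha using fun s : Sx N d => exists_aa pr hpr hker
    (algebraMap k (Tor k s.TT)) s.al s.BB (Mu k s.TT)
  have e : ∀ s : Sx N d, Fin d ≃ Bs s.al s.BB := fun s =>
    (finCongr (card_Bs_Sx s).symm).trans (Fintype.equivFin (Bs s.al s.BB)).symm
  have hft : ∀ s : Sx N d, (algebraMap k (Tor k s.TT)).FiniteType := fun s =>
    finiteType_algebraMap (k := k) (R := Tor k s.TT)
  have hred : ∀ s : Sx N d, _root_.IsReduced (Tor k s.TT) := fun s => inferInstance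
  have hw : ∀ s : Sx N d, RBas (be s.al s.BB (Mu k s.TT)) (fun j => a s
      (pr (mn s.al s.BB (e s j)))) := by
    intro s
    have h1 := rBas_mn s.al s.BB (Mu k s.TT) (e s)
    have h2 : (fun j => a s (pr (mn s.al s.BB (e s j)))) =
        fun j => Ideal.Quotient.mk (IA s.al s.BB (Mu k s.TT)) (mn s.al s.BB (e s j)) := by
      funext j
      exact aa_mn pr _ _ _ _ (a s) (ha s) (e s j)
    rw [h2]
    exact h1
  have hmain := cl_eq_sum x₀ H Z hZ HP ι hι (fun s : Sx N d => Tor k s.TT)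
    (fun s : Sx N d => Qa s.al s.BB (Mu k s.TT)) (fun s => algebraMap k (Tor k s.TT)) hft
    (fun s => be s.al s.BB (Mu k s.TT)) a
    (fun s => aa_comm pr _ _ _ _ (a s) (ha s))
    (fun s j => pr (mn s.al s.BB (e s j))) hw
    (fun s p => aa_supp pr hpr _ _ _ _ (a s) (ha s) x₀ hx₀ p)
    (fun K Q' _ _ κ' β' a' hP => hex_axes pr hd hpr h0 x₀ (fun i => by
      rw [hx₀]
      exact Ideal.mem_map_of_mem pr.toRingHom (Ideal.subset_span ⟨i, rfl⟩)) hP a ha)
  rw [hmain]
  refine Finset.sum_congr rfl fun s _ => ?_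
  rw [cA_eq]

/-- `d = 0`. -/
theorem cl_zero (x₀ : Spec (CommRingCat.of A0))
    (H : Over (Spec (CommRingCat.of k)))
    (Z : HilbD.Obj (fA k A0) 0 H) (hZ : HilbD.IsUniversal (fA k A0) 0 H Z)
    [LocallyOfFiniteType H.hom] [QuasiCompact H.hom] (HP : Scheme.{u}) (ι : HP ⟶ H.left)
    [IsClosedImmersion ι]
    (hι : Set.range ι = {h | ∀ z : Z.1.subscheme,
      (Z.1.subschemeι ≫ pullback.snd (fA k A0) H.hom) z = h →
        (Z.1.subschemeι ≫ pullback.fst (fA k A0) H.hom) z = x₀}) :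
    K0Var.cl (ι ≫ H.hom) = cA k k := by
  have hmain := cl_eq_sum x₀ H Z hZ HP ι hι (fun _ : Unit => k)
    (fun _ : Unit => PUnit.{u + 1}) (fun _ => algebraMap k k)
    (fun _ => finiteType_algebraMap (k := k) (R := k))
    (fun _ => (⟨⟨⟨fun _ => PUnit.unit, rfl⟩, fun _ _ => rfl⟩, rfl, fun _ _ => rfl⟩ : k →+* PUnit.{u+1}))
    (fun _ => (⟨⟨⟨fun _ => PUnit.unit, rfl⟩, fun _ _ => rfl⟩, rfl, fun _ _ => rfl⟩ : A0 →+* PUnit.{u+1}))
    (fun _ => rfl) (fun _ j => j.elim0)
    (fun _ => ⟨fun _ _ _ => Subsingleton.elim _ _, fun _ => ⟨fun j => j.elim0, rfl⟩⟩)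
    (fun _ p => absurd (show (1 : PUnit.{u+1}) ∈ p.asIdeal from p.asIdeal.zero_mem) p.2.one_notMem)
    (fun K Q' _ _ κ' β' a' hP => by
      obtain ⟨u, hu⟩ := hP.bas
      have hsub : Subsingleton Q' := ⟨fun x y => by
        obtain ⟨b, rfl⟩ := hu.2 x
        obtain ⟨b', rfl⟩ := hu.2 y
        rw [Subsingleton.elim b b']⟩
      refine ⟨⟨(), κ'⟩, ⟨by ext r; rfl, ⟨⟨⟨⟨fun _ => 0, Subsingleton.elim _ _⟩,
        fun _ _ => Subsingleton.elim _ _⟩, rfl, fun _ _ => Subsingleton.elim _ _⟩, ?_, ?_⟩⟩, ?_⟩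
      · ext r; exact Subsingleton.elim _ _
      · ext r; exact Subsingleton.elim _ _
      · rintro ⟨⟨⟩, φ⟩ ⟨h1, -⟩
        congr 1)
  rw [hmain, Fintype.sum_unique, cA_eq]

end Strata

end K940.Axes
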