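import Mathlib.Algebra.MvPolynomial.Basic
import Mathlib.Algebra.MvPolynomial.Eval
import Mathlib.Algebra.MvPolynomial.CommRing
import Mathlib.RingTheory.Ideal.Quotient.Operations
import Mathlib.RingTheory.Nilpotent.Basic
import Mathlib.Algebra.Polynomial.AlgebraMap

/-!
# Ideals of finite colength of the coordinate axes (ring level)
-/

set_option autoImplicit false
universe u v w

namespace K940.Axes
open MvPolynomial

section
variable {R : Type u} [CommRing R] {N : ℕ}

/-- the coefficient of `x_i^l` -/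
noncomputable def cf (i : Fin N) (l : ℕ) (f : MvPolynomial (Fin N) R) : R :=
  coeff (Finsupp.single i l) f

theorem cf_zero' (i : Fin N) (f : MvPolynomial (Fin N) R) : cf i 0 f = coeff 0 f := by
  rw [cf, Finsupp.single_zero]

theorem cf_add (i : Fin N) (l : ℕ) (f g : MvPolynomial (Fin N) R) :
    cf i l (f + g) = cf i l f + cf i l g := coeff_add _ _ _

theorem cf_C_mul (i : Fin N) (l : ℕ) (r : R) (f : MvPolynomial (Fin N) R) :
    cf i l (C r * f) = r * cf i l f := coeff_C_mul _ _ _

theorem cf_X_mul (i s : Fin N) (l : ℕ) (f : MvPolynomial (Fin N) R) :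
    cf i (l + 1) (X s * f) = if s = i then cf i l f else 0 := by
  rw [cf, coeff_X_mul', cf]
  by_cases h : s = i
  · subst h
    rw [if_pos (by rw [Finsupp.mem_support_iff, Finsupp.single_eq_same]; omega), if_pos rfl,
      ← Finsupp.single_tsub, Nat.add_sub_cancel]
  · rw [if_neg h, if_neg (by
      rw [Finsupp.mem_support_iff, Finsupp.single_eq_of_ne h, not_not])]

theorem coeff_zero_X_mul (s : Fin N) (f : MvPolynomial (Fin N) R) : coeff 0 (X s * f) = 0 := by
  rw [coeff_X_mul', if_neg (by simp)]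

theorem cf_one (i : Fin N) (l : ℕ) : cf i (l + 1) (1 : MvPolynomial (Fin N) R) = 0 := by
  rw [cf, coeff_one, if_neg]
  intro h
  have := congrArg (fun m => m i) h
  simp at this

theorem cf_X_pow (i s : Fin N) (l n : ℕ) : cf i (l + 1) ((X s : MvPolynomial (Fin N) R) ^ (n + 1)) =
    if s = i ∧ n = l then 1 else 0 := by
  rw [cf, coeff_single_X_pow]
  simp

theorem coeff_zero_X_pow (s : Fin N) (n : ℕ) :
    coeff 0 ((X s : MvPolynomial (Fin N) R) ^ (n + 1)) = 0 := by
  rw [pow_succ', coeff_zero_X_mul]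

variable (α : Fin N → ℕ) (B : Finset (Fin N)) (M : Fin N → Fin N → R)

/-- the top functional at `j ∈ B` -/
noncomputable def tp (j : Fin N) (f : MvPolynomial (Fin N) R) : R :=
  cf j (α j + 1) f + ∑ p ∈ Bᶜ, M p j * cf p (α p + 1) f

theorem tp_add (j : Fin N) (f g : MvPolynomial (Fin N) R) :
    tp α B M j (f + g) = tp α B M j f + tp α B M j g := by
  rw [tp, tp, tp, cf_add]
  simp only [cf_add, mul_add, Finset.sum_add_distrib]
  ring

theorem tp_C_mul (j : Fin N) (r : R) (f : MvPolynomial (Fin N) R) :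
    tp α B M j (C r * f) = r * tp α B M j f := by
  rw [tp, tp, cf_C_mul, mul_add, Finset.mul_sum]
  congr 1
  refine Finset.sum_congr rfl fun p _ => ?_
  rw [cf_C_mul]
  ring

/-- membership in the ideal -/
def Mem (f : MvPolynomial (Fin N) R) : Prop :=
  coeff 0 f = 0 ∧ (∀ i l, l < α i → cf i (l + 1) f = 0) ∧ ∀ j ∈ B, tp α B M j f = 0

theorem mem_X_mul (s : Fin N) {f : MvPolynomial (Fin N) R} (hf : Mem α B M f) :
    Mem α B M (X s * f) := by
  obtain ⟨h0, h1, -⟩ := hf
  have h2 : ∀ i l, l ≤ α i → cf i (l + 1) (X s * f) = 0 := by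
    intro i l hl
    rw [cf_X_mul]
    split_ifs with h
    · cases l with
      | zero => rw [cf_zero', h0]
      | succ l => exact h1 i l (by omega)
    · rfl
  refine ⟨coeff_zero_X_mul s f, fun i l hl => h2 i l hl.le, fun j _ => ?_⟩
  rw [tp, h2 j _ le_rfl, zero_add]
  refine Finset.sum_eq_zero fun p _ => ?_
  rw [h2 p _ le_rfl, mul_zero]

/-- The ideal `I(α, B, M)`. -/
noncomputable def IA : Ideal (MvPolynomial (Fin N) R) where
  carrier := {f | Mem α B M f}
  zero_mem' := by
    refine ⟨coeff_zero _, fun i l _ => coeff_zero _, fun j _ => ?_⟩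
    rw [tp]
    simp [cf]
  add_mem' := by
    rintro f g ⟨h0, h1, h2⟩ ⟨h0', h1', h2'⟩
    refine ⟨by rw [coeff_add, h0, h0', add_zero], fun i l hl => ?_, fun j hj => ?_⟩
    · rw [cf_add, h1 i l hl, h1' i l hl, add_zero]
    · rw [tp_add, h2 j hj, h2' j hj, add_zero]
  smul_mem' := by
    intro c
    induction c using MvPolynomial.induction_on with
    | C r =>
      rintro f ⟨h0, h1, h2⟩
      rw [smul_eq_mul]
      refine ⟨by rw [coeff_C_mul, h0, mul_zero], fun i l hl => ?_, fun j hj => ?_⟩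
      · rw [cf_C_mul, h1 i l hl, mul_zero]
      · rw [tp_C_mul, h2 j hj, mul_zero]
    | add p q hp hq =>
      intro f hf
      obtain ⟨h0, h1, h2⟩ := hp hf
      obtain ⟨h0', h1', h2'⟩ := hq hf
      rw [smul_eq_mul] at *
      refine ⟨by rw [add_mul, coeff_add, h0, h0', add_zero], fun i l hl => ?_, fun j hj => ?_⟩
      · rw [add_mul, cf_add, h1 i l hl, h1' i l hl, add_zero]
      · rw [add_mul, tp_add, h2 j hj, h2' j hj, add_zero]
    | mul_X p s hp =>
      intro f hf
      have := hp (mem_X_mul α B M s hf)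
      rw [smul_eq_mul] at *
      rw [mul_assoc]
      exact this

theorem mem_IA (f : MvPolynomial (Fin N) R) : f ∈ IA α B M ↔
    coeff 0 f = 0 ∧ (∀ i l, l < α i → cf i (l + 1) f = 0) ∧ ∀ j ∈ B, tp α B M j f = 0 := Iff.rfl

theorem X_mul_X_mem {i j : Fin N} (h : i ≠ j) : (X i * X j : MvPolynomial (Fin N) R) ∈ IA α B M := by
  have h1 : ∀ s l, cf s (l + 1) (X i * X j : MvPolynomial (Fin N) R) = 0 := by
    intro s l
    rw [cf_X_mul]
    split_ifs with h2
    · subst h2
      cases l with
      | zero => rw [cf_zero', coeff_zero_X]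
      | succ l =>
        have := cf_X_pow (R := R) i j l 0
        rw [zero_add, pow_one] at this
        rw [this, if_neg (fun h3 => h h3.1.symm)]
    · rfl
  refine ⟨coeff_zero_X_mul _ _, fun s l _ => h1 s l, fun s _ => ?_⟩
  rw [tp, h1, zero_add]
  refine Finset.sum_eq_zero fun p _ => ?_
  rw [h1, mul_zero]

theorem X_pow_mem (i : Fin N) : (X i : MvPolynomial (Fin N) R) ^ (α i + 2) ∈ IA α B M := by
  have h1 : ∀ s l, l ≤ α s → cf s (l + 1) ((X i : MvPolynomial (Fin N) R) ^ (α i + 1 + 1)) = 0 := by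
    intro s l hl
    rw [cf_X_pow, if_neg]
    rintro ⟨rfl, h⟩
    omega
  refine ⟨coeff_zero_X_pow _ _, fun s l hl => h1 s l hl.le, fun s _ => ?_⟩
  rw [tp, h1 s _ le_rfl, zero_add]
  refine Finset.sum_eq_zero fun p _ => ?_
  rw [h1 p _ le_rfl, mul_zero]

/-- the linear generators -/
noncomputable def lin (p : Fin N) : MvPolynomial (Fin N) R :=
  X p ^ (α p + 1) - ∑ j ∈ B, C (M p j) * X j ^ (α j + 1)

theorem cf_sub (i : Fin N) (l : ℕ) (f g : MvPolynomial (Fin N) R) :
    cf i l (f - g) = cf i l f - cf i l g := coeff_sub _ _ _ _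

theorem cf_sum {ι : Type*} (s : Finset ι) (i : Fin N) (l : ℕ) (f : ι → MvPolynomial (Fin N) R) :
    cf i l (∑ j ∈ s, f j) = ∑ j ∈ s, cf i l (f j) := coeff_sum _ _ _

theorem cf_lin (p s : Fin N) (l : ℕ) : cf s (l + 1) (lin α B M p) =
    (if p = s ∧ α p = l then 1 else 0) - (if s ∈ B ∧ α s = l then M p s else 0) := by
  rw [lin, cf_sub, cf_X_pow, cf_sum]
  congr 1
  simp only [cf_C_mul, cf_X_pow]
  by_cases hs : s ∈ B
  · rw [Finset.sum_eq_single s]
    · by_cases h : α s = l
      · rw [if_pos ⟨rfl, h⟩, if_pos ⟨hs, h⟩, mul_one]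
      · rw [if_neg (fun h' => h h'.2), if_neg (fun h' => h h'.2), mul_zero]
    · intro j _ hj
      rw [if_neg (fun h => hj h.1), mul_zero]
    · intro h; exact absurd hs h
  · rw [if_neg (fun h => hs h.1)]
    refine Finset.sum_eq_zero fun j hj => ?_
    rw [if_neg, mul_zero]
    rintro ⟨rfl, _⟩
    exact hs hj

theorem coeff_zero_lin (p : Fin N) : coeff 0 (lin α B M p) = 0 := by
  rw [lin, coeff_sub, coeff_zero_X_pow, coeff_sum, zero_sub, neg_eq_zero]
  refine Finset.sum_eq_zero fun j _ => ?_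
  rw [coeff_C_mul, coeff_zero_X_pow, mul_zero]

theorem lin_mem (p : Fin N) (hp : p ∉ B) : lin α B M p ∈ IA α B M := by
  refine ⟨coeff_zero_lin α B M p, fun s l hl => ?_, fun j hj => ?_⟩
  · rw [cf_lin, if_neg, if_neg, sub_zero]
    · rintro ⟨_, rfl⟩; omega
    · rintro ⟨rfl, rfl⟩; omega
  · rw [tp, cf_lin, if_neg (fun h : p = j ∧ _ => hp (h.1 ▸ hj)), if_pos ⟨hj, rfl⟩, zero_sub,
      Finset.sum_eq_single p]
    · rw [cf_lin, if_pos ⟨rfl, rfl⟩, if_neg (fun h => hp h.1), sub_zero, mul_one, neg_add_cancel]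
    · intro q hq hqp
      rw [cf_lin, if_neg (fun h => hqp h.1.symm), if_neg (fun h => (Finset.mem_compl.mp hq) h.1),
        sub_zero, mul_zero]
    · intro h
      exact absurd (Finset.mem_compl.mpr hp) h

/-- polynomials without low pure terms are in every ideal containing the cross terms and the high
powers. -/
theorem mem_of_low (J : Ideal (MvPolynomial (Fin N) R))
    (h1 : ∀ i j : Fin N, i ≠ j → (X i * X j : MvPolynomial (Fin N) R) ∈ J)
    (h2 : ∀ i, (X i : MvPolynomial (Fin N) R) ^ (α i + 2) ∈ J)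
    (f : MvPolynomial (Fin N) R) (h0 : coeff 0 f = 0)
    (hf : ∀ i l, l ≤ α i → cf i (l + 1) f = 0) : f ∈ J := by
  rw [f.as_sum]
  refine J.sum_mem fun m hm => ?_
  rw [mem_support_iff] at hm
  have hm0 : m ≠ 0 := by rintro rfl; exact hm h0
  obtain ⟨i, hi⟩ : ∃ i, m i ≠ 0 := by
    by_contra hcon
    push Not at hcon
    exact hm0 (Finsupp.ext hcon)
  by_cases hc : ∃ j, j ≠ i ∧ m j ≠ 0
  · obtain ⟨j, hji, hj⟩ := hc
    have h3 : monomial m (coeff m f) =
        monomial (m - Finsupp.single i 1 - Finsupp.single j 1) (coeff m f) * (X i * X j) := by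
      rw [X, X, monomial_mul, monomial_mul, mul_one, mul_one]
      have h5 : m = m - Finsupp.single i 1 - Finsupp.single j 1 +
          (Finsupp.single i 1 + Finsupp.single j 1) := by
        ext s
        simp only [Finsupp.coe_add, Pi.add_apply, Finsupp.coe_tsub, Pi.sub_apply,
          Finsupp.single_apply]
        split_ifs <;> subst_vars <;> omega
      rw [← h5]
    rw [h3]
    exact J.mul_mem_left _ (h1 i j hji.symm)
  · push Not at hc
    obtain ⟨l, hl⟩ : ∃ l, m i = l + 1 := ⟨m i - 1, by omega⟩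
    have hms : m = Finsupp.single i (l + 1) := by
      ext s
      by_cases hs : s = i
      · subst hs; rw [Finsupp.single_eq_same, hl]
      · rw [Finsupp.single_eq_of_ne hs, hc s hs]
    have hl2 : ¬ l ≤ α i := fun h => hm (by rw [hms]; exact hf i l h)
    obtain ⟨q, rfl⟩ : ∃ q, l = α i + 1 + q := ⟨l - (α i + 1), by omega⟩
    have h3 : monomial m (coeff m f) = C (coeff m f) * X i ^ q * X i ^ (α i + 2) := by
      have h6 : q + (α i + 2) = α i + 1 + q + 1 := by omega
      rw [mul_assoc, ← pow_add, C_mul_X_pow_eq_monomial, h6, ← hms]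
    rw [h3]
    exact J.mul_mem_left _ (h2 i)

/-- generators of `IA` -/
theorem IA_le (J : Ideal (MvPolynomial (Fin N) R))
    (h1 : ∀ i j : Fin N, i ≠ j → (X i * X j : MvPolynomial (Fin N) R) ∈ J)
    (h2 : ∀ i, (X i : MvPolynomial (Fin N) R) ^ (α i + 2) ∈ J)
    (h3 : ∀ p ∉ B, lin α B M p ∈ J) : IA α B M ≤ J := by
  rintro f ⟨hf0, hf1, hf2⟩
  have h4 : ∑ p ∈ Bᶜ, C (cf p (α p + 1) f) * lin α B M p ∈ J :=
    J.sum_mem fun p hp => J.mul_mem_left _ (h3 p (Finset.mem_compl.mp hp))
  rw [← sub_add_cancel f (∑ p ∈ Bᶜ, C (cf p (α p + 1) f) * lin α B M p)]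
  refine J.add_mem (mem_of_low α J h1 h2 _ ?_ ?_) h4
  · rw [coeff_sub, hf0, coeff_sum, zero_sub, neg_eq_zero]
    refine Finset.sum_eq_zero fun p _ => ?_
    rw [coeff_C_mul, coeff_zero_lin, mul_zero]
  · intro i l hl
    rw [cf_sub, cf_sum]
    simp only [cf_C_mul, cf_lin]
    rcases hl.lt_or_eq with hl' | rfl
    · rw [hf1 i l hl', zero_sub, neg_eq_zero]
      refine Finset.sum_eq_zero fun p _ => ?_
      rw [if_neg, if_neg, sub_zero, mul_zero]
      · rintro ⟨_, rfl⟩; omega
      · rintro ⟨rfl, rfl⟩; omega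
    · by_cases hi : i ∈ B
      · have h5 := hf2 i hi
        rw [tp] at h5
        refine Eq.trans ?_ h5
        rw [sub_eq_add_neg, ← Finset.sum_neg_distrib]
        congr 1
        refine Finset.sum_congr rfl fun p hp => ?_
        rw [if_neg (fun h : p = i ∧ _ => (Finset.mem_compl.mp hp) (h.1 ▸ hi)), if_pos ⟨hi, rfl⟩]
        ring
      · rw [sub_eq_zero, Finset.sum_eq_single i]
        · rw [if_pos ⟨rfl, rfl⟩, if_neg (fun h => hi h.1), sub_zero, mul_one]
        · intro p _ hpi
          rw [if_neg (fun h => hpi h.1), if_neg (fun h => hi h.1), sub_zero, mul_zero]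
        · intro h
          exact absurd (Finset.mem_compl.mpr hi) h

/-! ### the basis -/

/-- index set of the basis -/
abbrev Bs : Type := Unit ⊕ (Σ i : Fin N, Fin (α i)) ⊕ B

/-- the basis monomials -/
noncomputable def mn : Bs α B → MvPolynomial (Fin N) R
  | .inl _ => 1
  | .inr (.inl p) => X p.1 ^ ((p.2 : ℕ) + 1)
  | .inr (.inr j) => X (j : Fin N) ^ (α j + 1)

/-- the dual functionals -/
noncomputable def fn : Bs α B → MvPolynomial (Fin N) R → R
  | .inl _ => coeff 0
  | .inr (.inl p) => cf p.1 ((p.2 : ℕ) + 1)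
  | .inr (.inr j) => tp α B M j

theorem fn_add (b : Bs α B) (f g : MvPolynomial (Fin N) R) :
    fn α B M b (f + g) = fn α B M b f + fn α B M b g := by
  rcases b with _ | _ | j
  · exact coeff_add _ _ _
  · exact cf_add _ _ _ _
  · exact tp_add _ _ _ _ _ _

theorem fn_C_mul (b : Bs α B) (r : R) (f : MvPolynomial (Fin N) R) :
    fn α B M b (C r * f) = r * fn α B M b f := by
  rcases b with _ | _ | j
  · exact coeff_C_mul _ _ _
  · exact cf_C_mul _ _ _ _
  · exact tp_C_mul _ _ _ _ _ _

theorem fn_zero (b : Bs α B) : fn α B M b 0 = 0 := by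
  have := fn_C_mul α B M b 0 0
  rwa [mul_zero, zero_mul] at this

theorem fn_sum {ι : Type*} (s : Finset ι) (b : Bs α B) (f : ι → MvPolynomial (Fin N) R) :
    fn α B M b (∑ j ∈ s, f j) = ∑ j ∈ s, fn α B M b (f j) := by
  classical
  induction s using Finset.induction_on with
  | empty => rw [Finset.sum_empty, Finset.sum_empty, fn_zero]
  | insert a s ha ih => rw [Finset.sum_insert ha, Finset.sum_insert ha, fn_add, ih]

theorem mem_IA_iff_fn (f : MvPolynomial (Fin N) R) : f ∈ IA α B M ↔ ∀ b, fn α B M b f = 0 := by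
  constructor
  · rintro ⟨h0, h1, h2⟩ (_ | ⟨i, l⟩ | j)
    · exact h0
    · exact h1 i l l.2
    · exact h2 j j.2
  · intro h
    exact ⟨h (.inl ()), fun i l hl => h (.inr (.inl ⟨i, ⟨l, hl⟩⟩)), fun j hj => h (.inr (.inr ⟨j, hj⟩))⟩

theorem fn_mn [DecidableEq (Bs α B)] (b b' : Bs α B) :
    fn α B M b (mn α B b') = if b = b' then 1 else 0 := by
  rcases b' with _ | ⟨i', l'⟩ | j'
  · rcases b with _ | ⟨i, l⟩ | j
    · exact (coeff_zero_one).trans (by simp)
    · change cf i ((l : ℕ) + 1) 1 = _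
      rw [cf_one, if_neg (by simp)]
    · change tp α B M j 1 = _
      rw [tp, cf_one, zero_add, Finset.sum_eq_zero, if_neg (by simp)]
      intro p _
      rw [cf_one, mul_zero]
  · rcases b with _ | ⟨i, l⟩ | j
    · exact (coeff_zero_X_pow _ _).trans (by simp)
    · change cf i ((l : ℕ) + 1) (X i' ^ ((l' : ℕ) + 1)) = _
      rw [cf_X_pow]
      by_cases h : i' = i
      · subst h
        by_cases h' : l' = l
        · subst h'; simp
        · rw [if_neg (fun h2 => h' (Fin.ext h2.2)), if_neg]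
          intro h2
          apply h'
          simpa using h2.symm
      · rw [if_neg (fun h2 => h h2.1), if_neg]
        intro h2
        apply h
        have := Sum.inl.inj (Sum.inr.inj h2)
        exact (congrArg Sigma.fst this).symm
    · change tp α B M j (X i' ^ ((l' : ℕ) + 1)) = _
      have h1 : ∀ s, cf s (α s + 1) ((X i' : MvPolynomial (Fin N) R) ^ ((l' : ℕ) + 1)) = 0 := by
        intro s
        rw [cf_X_pow, if_neg]
        rintro ⟨rfl, h⟩
        have := l'.2
        omega
      rw [tp, h1, zero_add, Finset.sum_eq_zero, if_neg (by simp)]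
      intro p _
      rw [h1, mul_zero]
  · rcases b with _ | ⟨i, l⟩ | j
    · exact (coeff_zero_X_pow _ _).trans (by simp)
    · change cf i ((l : ℕ) + 1) (X (j' : Fin N) ^ (α j' + 1)) = _
      rw [cf_X_pow, if_neg, if_neg (by simp)]
      rintro ⟨h, h2⟩
      subst h
      have := l.2
      omega
    · change tp α B M j (X (j' : Fin N) ^ (α j' + 1)) = _
      rw [tp, cf_X_pow, Finset.sum_eq_zero]
      · rw [add_zero]
        by_cases h : j = j'
        · subst h; simp
        · rw [if_neg (fun h2 => h (Subtype.ext h2.1.symm)), if_neg]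
          intro h2
          apply h
          simpa using h2
      · intro p hp
        rw [cf_X_pow, if_neg, mul_zero]
        rintro ⟨h, _⟩
        exact Finset.mem_compl.mp hp (h ▸ j'.2)

/-- the quotient ring -/
abbrev Qa : Type u := MvPolynomial (Fin N) R ⧸ IA α B M

/-- its structure map -/
noncomputable def be : R →+* Qa α B M := (Ideal.Quotient.mk (IA α B M)).comp C

theorem bijective_mn : Function.Bijective (fun e : Bs α B → R =>
    ∑ b, be α B M (e b) * Ideal.Quotient.mk (IA α B M) (mn α B b)) := by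
  classical
  have h1 : ∀ e : Bs α B → R, ∑ b, be α B M (e b) * Ideal.Quotient.mk (IA α B M) (mn α B b) =
      Ideal.Quotient.mk (IA α B M) (∑ b, C (e b) * mn α B b) := by
    intro e
    rw [map_sum]
    exact Finset.sum_congr rfl fun b _ => (map_mul (Ideal.Quotient.mk (IA α B M)) _ _).symm
  have h2 : ∀ (e : Bs α B → R) (b : Bs α B), fn α B M b (∑ b, C (e b) * mn α B b) = e b := by
    intro e b
    rw [fn_sum, Finset.sum_eq_single b]
    · rw [fn_C_mul, fn_mn, if_pos rfl, mul_one]
    · intro b' _ hb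
      rw [fn_C_mul, fn_mn, if_neg hb.symm, mul_zero]
    · intro h; exact absurd (Finset.mem_univ _) h
  constructor
  · intro e e' h
    dsimp only at h
    rw [h1, h1, Ideal.Quotient.eq, mem_IA_iff_fn] at h
    funext b
    have h3 := h b
    have h4 : fn α B M b (∑ b, C (e b) * mn α B b) =
        fn α B M b (∑ b, C (e b) * mn α B b - ∑ b, C (e' b) * mn α B b) +
          fn α B M b (∑ b, C (e' b) * mn α B b) := by
      rw [← fn_add, sub_add_cancel]
    rwa [h3, zero_add, h2, h2] at h4
  · intro z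
    obtain ⟨f, rfl⟩ := Ideal.Quotient.mk_surjective z
    refine ⟨fun b => fn α B M b f, ?_⟩
    dsimp only
    rw [h1, eq_comm, Ideal.Quotient.eq, mem_IA_iff_fn]
    intro b
    have h4 : fn α B M b f = fn α B M b (f - ∑ b, C (fn α B M b f) * mn α B b) +
        fn α B M b (∑ b, C (fn α B M b f) * mn α B b) := by
      rw [← fn_add, sub_add_cancel]
    rw [h2] at h4
    exact (left_eq_add.mp (h4.trans (add_comm _ _)))

theorem card_Bs : Fintype.card (Bs α B) = 1 + (∑ i, α i + B.card) := by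
  simp

end

end K940.Axes
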