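import Mathlib.Algebra.Polynomial.Bivariate
import Mathlib.RingTheory.Ideal.Colon
import Mathlib.RingTheory.AdjoinRoot
import Mathlib.Algebra.Polynomial.Div

/-!
# Ideals of `R[x][y]` with a given staircase (ring level)

For `c : ℕ → ℕ` and `V : ℕ → ℕ → R[X]` we define `g : ℕ → R[X][Y]` by `g 0 = 1`,
`g (m + 1) = x ^ c m * g m + ∑ j < m, V m j * y ^ (m - j) * g j`, and the ideals
`I 0 = ⊤`, `I (m + 1) = (g (m + 1)) + y I m`.
-/

set_option autoImplicit false
universe u v w

namespace K940.HZFlag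
open Polynomial

section
variable {R : Type u} [CommRing R] (c : ℕ → ℕ) (V : ℕ → ℕ → R[X])

theorem aux1 {S : Type*} [CommRing S] (a x y : S) (k : ℕ) :
    a * (x ^ k * x) * y = x * (a * x ^ k * y) := by ring

theorem aux2 {S : Type*} [CommRing S] (g1 s q r xc w x T : S) :
    (q * xc + r) * g1 + x * w - (x * T + r * g1) =
      q * (xc * g1 + x * s) + x * (w - q * s - T) := by ring

theorem aux3 {S : Type*} [CommRing S] (w q r xc x : S) :
    w * x + (q * xc + r) - r = q * xc + x * w := by ring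

/-- the generators -/
noncomputable def g : ℕ → R[X][X]
  | 0 => 1
  | m + 1 => C (X ^ c m) * g m + ∑ j : Fin m, C (V m j) * X ^ (m - (j : ℕ)) * g j
termination_by m => m
decreasing_by
  · omega
  · have := j.2; omega

theorem g_zero : g c V 0 = 1 := by rw [g]

theorem g_succ (m : ℕ) : g c V (m + 1) =
    C (X ^ c m) * g c V m + ∑ j ∈ Finset.range m, C (V m j) * X ^ (m - j) * g c V j := by
  rw [g, Finset.sum_range]

/-- the ideals -/
noncomputable def I : ℕ → Ideal R[X][X]
  | 0 => ⊤
  | m + 1 => Ideal.span {g c V (m + 1)} ⊔ Ideal.span {X} * I m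

theorem I_zero : I c V 0 = ⊤ := rfl

theorem I_succ (m : ℕ) : I c V (m + 1) = Ideal.span {g c V (m + 1)} ⊔ Ideal.span {X} * I c V m :=
  rfl

theorem g_mem (m : ℕ) : g c V m ∈ I c V m := by
  cases m with
  | zero => exact Submodule.mem_top
  | succ m => exact Ideal.mem_sup_left (Ideal.subset_span rfl)

theorem X_mul_mem {m : ℕ} {f : R[X][X]} (hf : f ∈ I c V m) : X * f ∈ I c V (m + 1) :=
  Ideal.mem_sup_right (Ideal.mul_mem_mul (Ideal.subset_span rfl) hf)

theorem X_pow_mul_mem {m : ℕ} {f : R[X][X]} (hf : f ∈ I c V m) (k : ℕ) :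
    X ^ k * f ∈ I c V (m + k) := by
  induction k with
  | zero => simpa using hf
  | succ k ih =>
    rw [pow_succ', mul_assoc, ← add_assoc]
    exact X_mul_mem c V ih

theorem X_pow_mul_g_mem {j m : ℕ} (h : j ≤ m) : X ^ (m - j) * g c V j ∈ I c V m := by
  have := X_pow_mul_mem c V (g_mem c V j) (m - j)
  rwa [Nat.add_sub_cancel' h] at this

theorem X_pow_mem (m : ℕ) : (X : R[X][X]) ^ m ∈ I c V m := by
  have := X_pow_mul_g_mem c V (Nat.zero_le m)
  rwa [g_zero, mul_one, Nat.sub_zero] at this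

theorem g_succ_mem (m : ℕ) : g c V (m + 1) ∈ I c V m := by
  rw [g_succ]
  refine Ideal.add_mem _ (Ideal.mul_mem_left _ _ (g_mem c V m)) (Ideal.sum_mem _ fun j hj => ?_)
  rw [mul_assoc]
  exact Ideal.mul_mem_left _ _ (X_pow_mul_g_mem c V (Finset.mem_range.mp hj).le)

theorem I_succ_le (m : ℕ) : I c V (m + 1) ≤ I c V m := by
  rw [I_succ]
  refine sup_le ?_ Ideal.mul_le_right
  rw [Ideal.span_le, Set.singleton_subset_iff]
  exact g_succ_mem c V m

/-- membership in `I (m + 1)` -/
theorem mem_I_succ {m : ℕ} {f : R[X][X]} :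
    f ∈ I c V (m + 1) ↔ ∃ p : R[X][X], ∃ f' ∈ I c V m, f = p * g c V (m + 1) + X * f' := by
  rw [I_succ, Submodule.mem_sup]
  constructor
  · rintro ⟨a, ha, b, hb, rfl⟩
    obtain ⟨p, rfl⟩ := Ideal.mem_span_singleton'.mp ha
    obtain ⟨f', hf', rfl⟩ := Ideal.mem_span_singleton_mul.mp hb
    exact ⟨p, f', hf', rfl⟩
  · rintro ⟨p, f', hf', rfl⟩
    exact ⟨_, Ideal.mem_span_singleton'.mpr ⟨p, rfl⟩, _,
      Ideal.mem_span_singleton_mul.mpr ⟨f', hf', rfl⟩, rfl⟩

/-- membership in `I (m + 1)`, with coefficient in `R[x]` -/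
theorem mem_I_succ' {m : ℕ} {f : R[X][X]} :
    f ∈ I c V (m + 1) ↔ ∃ p : R[X], ∃ f' ∈ I c V m, f = C p * g c V (m + 1) + X * f' := by
  rw [mem_I_succ]
  constructor
  · rintro ⟨p, f', hf', rfl⟩
    refine ⟨p.coeff 0, p.divX * g c V (m + 1) + f', Ideal.add_mem _ (Ideal.mul_mem_left _ _
      (g_succ_mem c V m)) hf', ?_⟩
    conv_lhs => rw [← Polynomial.divX_mul_X_add p]
    ring
  · rintro ⟨p, f', hf', rfl⟩
    exact ⟨C p, f', hf', rfl⟩

/-- `b m = ∑ j < m, c j` -/
def b (m : ℕ) : ℕ := ∑ j ∈ Finset.range m, c j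

theorem b_succ (m : ℕ) : b c (m + 1) = b c m + c m := Finset.sum_range_succ _ _

theorem coeff_zero_g (m : ℕ) : (g c V m).coeff 0 = X ^ b c m := by
  induction m with
  | zero => rw [g_zero, coeff_one_zero]; simp [b]
  | succ m ih =>
    rw [g_succ, coeff_add, coeff_C_mul, ih, finsetSum_coeff, Finset.sum_eq_zero, add_zero, b_succ,
      pow_add, mul_comm]
    intro j hj
    have hj := Finset.mem_range.mp hj
    obtain ⟨k, hk⟩ : ∃ k, m - j = k + 1 := ⟨m - j - 1, by omega⟩
    rw [hk, pow_succ]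
    have : C (V m j) * (X ^ k * X) * g c V j = (C (V m j) * X ^ k * g c V j) * X := by ring
    rw [this, coeff_mul_X_zero]

theorem X_mul_cancel {f f' : R[X][X]} (h : X * f = X * f') : f = f' := by
  ext1 i
  have := congrArg (fun q => q.coeff (i + 1)) h
  simpa only [coeff_X_mul] using this

theorem X_pow_mul_eq_zero {k : ℕ} {p : R[X]} (h : p * X ^ k = 0) : p = 0 := by
  ext i
  have := congrArg (fun q => q.coeff (i + k)) h
  simpa [coeff_mul_X_pow] using this

/-- `(I (m + 1) : y) = I m`. -/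
theorem mem_of_X_mul_mem {m : ℕ} {f : R[X][X]} (h : X * f ∈ I c V (m + 1)) : f ∈ I c V m := by
  obtain ⟨p, f', hf', hp⟩ := (mem_I_succ' c V).mp h
  have h0 := congrArg (fun q => q.coeff 0) hp
  simp only [mul_coeff_zero, coeff_X_zero, zero_mul, coeff_add, coeff_C_zero, add_zero] at h0
  rw [coeff_zero_g] at h0
  have hp0 := X_pow_mul_eq_zero h0.symm
  rw [hp0, map_zero, zero_mul, zero_add] at hp
  rw [X_mul_cancel hp]
  exact hf'

theorem X_mul_mem_iff {m : ℕ} {f : R[X][X]} : X * f ∈ I c V (m + 1) ↔ f ∈ I c V m :=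
  ⟨mem_of_X_mul_mem c V, X_mul_mem c V⟩

/-- division with remainder by `X ^ k` in `R[X]` -/
theorem exists_div (p : R[X]) (k : ℕ) : ∃ q r : R[X], p = q * X ^ k + r ∧ r.degree < k := by
  nontriviality R
  refine ⟨p /ₘ X ^ k, p %ₘ X ^ k, ?_, ?_⟩
  · rw [mul_comm, add_comm]; exact (modByMonic_add_div p (X ^ k)).symm
  · have := degree_modByMonic_lt p (monic_X_pow (R := R) k)
    rwa [degree_X_pow] at this

theorem eq_zero_of_degree_lt {q r : R[X]} {k : ℕ} (h : r = q * X ^ k) (hr : r.degree < k) :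
    q = 0 ∧ r = 0 := by
  have hr0 : r = 0 := by
    ext i
    by_cases hi : i < k
    · rw [h, coeff_mul_X_pow', if_neg (by omega), coeff_zero]
    · rw [coeff_zero]
      exact coeff_eq_zero_of_degree_lt (lt_of_lt_of_le hr (by exact_mod_cast (not_lt.mp hi)))
  refine ⟨?_, hr0⟩
  rw [hr0] at h
  exact X_pow_mul_eq_zero h.symm

theorem sum_shift (m : ℕ) (W : ℕ → R[X]) :
    ∑ j ∈ Finset.range (m + 1), C (W j) * X ^ (m + 1 - j) * g c V j =
      X * ∑ j ∈ Finset.range (m + 1), C (W j) * X ^ (m - j) * g c V j := by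
  rw [Finset.mul_sum]
  refine Finset.sum_congr rfl fun j hj => ?_
  have hj := Finset.mem_range.mp hj
  have e : m + 1 - j = m - j + 1 := by omega
  rw [e, pow_succ]
  exact aux1 _ _ _ _

/-- existence part of the division statement: `I m / I (m + 1)` is spanned by `x^i y^(m-j) g_j`,
`j ≤ m`, `i < c j`. -/
theorem exists_rep (m : ℕ) : ∀ w ∈ I c V m, ∃ U : ℕ → R[X], (∀ j, (U j).degree < (c j : ℕ)) ∧
    w - ∑ j ∈ Finset.range (m + 1), C (U j) * X ^ (m - j) * g c V j ∈ I c V (m + 1) := by
  induction m with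
  | zero =>
    intro w _
    obtain ⟨q, r, hqr, hr⟩ := exists_div (w.coeff 0) (c 0)
    classical
    refine ⟨fun j => if j = 0 then r else 0, fun j => ?_, ?_⟩
    · dsimp only
      split_ifs with h
      · rw [h]; exact hr
      · rw [degree_zero]; exact WithBot.bot_lt_coe _
    · rw [Finset.sum_range_one, mem_I_succ']
      refine ⟨q, w.divX, Submodule.mem_top, ?_⟩
      simp only [if_true, Nat.sub_zero, pow_zero, mul_one, g_zero, g_succ, Finset.range_zero,
        Finset.sum_empty, add_zero]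
      conv_lhs => rw [← Polynomial.divX_mul_X_add w, hqr]
      rw [map_add, map_mul]
      exact aux3 _ _ _ _ _
  | succ m ih =>
    intro w hw
    obtain ⟨p, w', hw', rfl⟩ := (mem_I_succ' c V).mp hw
    obtain ⟨q, r, hqr, hr⟩ := exists_div p (c (m + 1))
    -- `q x^c g_(m+1) = q g_(m+2) - y (...)`
    let s : R[X][X] := ∑ j ∈ Finset.range (m + 1), C (V (m + 1) j) * X ^ (m - j) * g c V j
    have hs : s ∈ I c V m := by
      refine Ideal.sum_mem _ fun j hj => ?_
      rw [mul_assoc]
      exact Ideal.mul_mem_left _ _ (X_pow_mul_g_mem c V (Nat.lt_succ_iff.mp (Finset.mem_range.mp hj)))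
    have hg : g c V (m + 1 + 1) = C (X ^ c (m + 1)) * g c V (m + 1) + X * s := by
      rw [g_succ c V (m + 1), sum_shift]
    obtain ⟨U, hU, hU'⟩ := ih (w' - C q * s) (Ideal.sub_mem _ hw' (Ideal.mul_mem_left _ _ hs))
    classical
    refine ⟨fun j => if j = m + 1 then r else U j, fun j => ?_, ?_⟩
    · dsimp only
      split_ifs with h
      · rw [h]; exact hr
      · exact hU j
    · rw [mem_I_succ]
      refine ⟨C q, _, hU', ?_⟩
      have hsum : ∑ j ∈ Finset.range (m + 1), C (if j = m + 1 then r else U j) *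
          X ^ (m + 1 - j) * g c V j =
          X * ∑ j ∈ Finset.range (m + 1), C (U j) * X ^ (m - j) * g c V j := by
        rw [← sum_shift]
        refine Finset.sum_congr rfl fun j hj => ?_
        have hj := Finset.mem_range.mp hj
        rw [if_neg (by omega)]
      have hlast : (fun j => if j = m + 1 then r else U j) (m + 1) = r := if_pos rfl
      rw [Finset.sum_range_succ, hsum, hlast, Nat.sub_self, pow_zero, mul_one, hg, hqr,
        map_add, map_mul]
      exact aux2 _ _ _ _ _ _ _ _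

/-- uniqueness part of the division statement -/
theorem rep_unique (m : ℕ) : ∀ U : ℕ → R[X], (∀ j, (U j).degree < (c j : ℕ)) →
    ∑ j ∈ Finset.range (m + 1), C (U j) * X ^ (m - j) * g c V j ∈ I c V (m + 1) →
    ∀ j ≤ m, U j = 0 := by
  induction m with
  | zero =>
    intro U hU h j hj
    obtain rfl : j = 0 := by omega
    rw [Finset.sum_range_one, mem_I_succ'] at h
    obtain ⟨p, f', _, hp⟩ := h
    have h0 := congrArg (fun q => q.coeff 0) hp
    simp only [Nat.sub_zero, pow_zero, mul_one, g_zero, coeff_C_zero, coeff_add, mul_coeff_zero,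
      coeff_X_zero, zero_mul, add_zero] at h0
    rw [coeff_zero_g, b_succ] at h0
    have : b c 0 = 0 := rfl
    rw [this, zero_add] at h0
    exact (eq_zero_of_degree_lt h0 (hU 0)).2
  | succ m ih =>
    intro U hU h
    rw [Finset.sum_range_succ, sum_shift, Nat.sub_self, pow_zero, mul_one] at h
    have h' := h
    rw [mem_I_succ'] at h
    obtain ⟨p, f', _, hp⟩ := h
    have h0 := congrArg (fun q => q.coeff 0) hp
    simp only [coeff_C_zero, coeff_add, mul_coeff_zero, coeff_X_zero, zero_mul, add_zero,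
      zero_add] at h0
    rw [coeff_zero_g, coeff_zero_g, b_succ c (m + 1), pow_add, mul_comm (X ^ b c (m + 1)),
      ← mul_assoc, ← sub_eq_zero, ← sub_mul] at h0
    have h1 := X_pow_mul_eq_zero h0
    have h2 := (eq_zero_of_degree_lt (sub_eq_zero.mp h1) (hU (m + 1))).2
    rw [h2, map_zero, zero_mul, add_zero, X_mul_mem_iff] at h'
    intro j hj
    rcases Nat.lt_or_ge j (m + 1) with hj' | hj'
    · exact ih U hU h' j (by omega)
    · obtain rfl : j = m + 1 := by omega
      exact h2

/-- the data determining `g m` and `I m` -/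
theorem g_congr {c c' : ℕ → ℕ} {V V' : ℕ → ℕ → R[X]} {m : ℕ} (hc : ∀ j < m, c j = c' j)
    (hV : ∀ i < m, ∀ j < i, V i j = V' i j) : g c V m = g c' V' m := by
  induction m using Nat.strong_induction_on with
  | _ m ih =>
    cases m with
    | zero => rw [g_zero, g_zero]
    | succ m =>
      rw [g_succ, g_succ, hc m (by omega), ih m (by omega) (fun j hj => hc j (by omega))
        (fun i hi => hV i (by omega))]
      congr 1
      refine Finset.sum_congr rfl fun j hj => ?_
      have hj := Finset.mem_range.mp hj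
      rw [hV m (by omega) j hj, ih j (by omega) (fun j' hj' => hc j' (by omega))
        (fun i hi => hV i (by omega))]

theorem I_congr {c c' : ℕ → ℕ} {V V' : ℕ → ℕ → R[X]} {m : ℕ} (hc : ∀ j < m, c j = c' j)
    (hV : ∀ i < m, ∀ j < i, V i j = V' i j) : I c V m = I c' V' m := by
  induction m with
  | zero => rfl
  | succ m ih =>
    rw [I_succ, I_succ, g_congr hc hV, ih (fun j hj => hc j (by omega))
        (fun i hi => hV i (by omega))]

end

end K940.HZFlag
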