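import Groth.Agent.HilbZeta.K940.FlagClass
import Groth.Agent.Picfga.HilbChartAlg

/-!
# The monomial basis of `R[x][y] / I c V m` over `R`
-/

set_option autoImplicit false
universe u v w

namespace K940.HZFlag
open Polynomial

section
variable {R : Type u} [CommRing R] (c : ℕ → ℕ) (V : ℕ → ℕ → R[X])

theorem aux4 {S : Type*} [CommRing S] (w q r G x s : S) :
    w * x + (q * G + r) - (x * s + r) = q * G + x * (w - s) := by ring

theorem sum_shift_gen {S : Type*} [CommRing S] (m : ℕ) (y : S) (a : ℕ → S) :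
    ∑ l ∈ Finset.range (m + 1), a l * y ^ l = y * ∑ l ∈ Finset.range m, a (l + 1) * y ^ l + a 0 := by
  rw [Finset.sum_range_succ', pow_zero, mul_one, Finset.mul_sum]
  congr 1
  refine Finset.sum_congr rfl fun l _ => ?_
  rw [pow_succ', ← mul_assoc, ← mul_assoc, mul_comm (a (l + 1)) y]

theorem sum_shift' (m : ℕ) (W : ℕ → R[X]) :
    ∑ l ∈ Finset.range (m + 1), C (W l) * (X : R[X][X]) ^ l =
      X * ∑ l ∈ Finset.range m, C (W (l + 1)) * X ^ l + C (W 0) :=
  sum_shift_gen m X (fun l => C (W l))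

theorem exists_red (m : ℕ) : ∀ f : R[X][X], ∃ U : ℕ → R[X], (∀ l, (U l).degree < (b c (m - l) : ℕ)) ∧
    f - ∑ l ∈ Finset.range m, C (U l) * X ^ l ∈ I c V m := by
  induction m with
  | zero =>
    intro f
    refine ⟨fun _ => 0, fun l => ?_, Submodule.mem_top⟩
    rw [degree_zero]; exact WithBot.bot_lt_coe _
  | succ m ih =>
    intro f
    obtain ⟨q, r, hqr, hr⟩ := exists_div (f.coeff 0) (b c (m + 1))
    -- `f = q g_(m+1) + r + y f'`
    have h0 : (f - (C q * g c V (m + 1) + C r)).coeff 0 = 0 := by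
      rw [coeff_sub, coeff_add, coeff_C_mul, coeff_zero_g, coeff_C_zero, hqr, sub_self]
    obtain ⟨f', hf'⟩ := X_dvd_iff.mpr h0
    obtain ⟨U, hU, hU'⟩ := ih f'
    obtain ⟨W, hW0, hWs⟩ : ∃ W : ℕ → R[X], W 0 = r ∧ ∀ l, W (l + 1) = U l :=
      ⟨fun l => Nat.rec r (fun l _ => U l) l, rfl, fun l => rfl⟩
    refine ⟨W, ?_, ?_⟩
    · intro l
      cases l with
      | zero => rw [hW0]; exact hr
      | succ l =>
        rw [hWs, Nat.add_sub_add_right]
        exact hU l
    · rw [sum_shift', hW0]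
      simp only [hWs]
      rw [mem_I_succ']
      refine ⟨q, _, hU', ?_⟩
      have h1 : f = X * f' + (C q * g c V (m + 1) + C r) := sub_eq_iff_eq_add.mp hf'
      conv_lhs => rw [h1, mul_comm X f']
      exact aux4 _ _ _ _ _ _

theorem red_unique (m : ℕ) : ∀ U : ℕ → R[X], (∀ l, (U l).degree < (b c (m - l) : ℕ)) →
    ∑ l ∈ Finset.range m, C (U l) * X ^ l ∈ I c V m → ∀ l < m, U l = 0 := by
  induction m with
  | zero => intro U _ _ l hl; omega
  | succ m ih =>
    intro U hU h
    rw [sum_shift'] at h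
    have h' := h
    rw [mem_I_succ'] at h
    obtain ⟨p, f', _, hp⟩ := h
    have h0 := congrArg (fun q => q.coeff 0) hp
    simp only [coeff_C_zero, coeff_add, mul_coeff_zero, coeff_X_zero, zero_mul, add_zero,
      zero_add] at h0
    rw [coeff_zero_g] at h0
    have hU0 := (eq_zero_of_degree_lt h0 (hU 0)).2
    rw [hU0, map_zero, add_zero, X_mul_mem_iff] at h'
    intro l hl
    cases l with
    | zero => exact hU0
    | succ l =>
      refine ih (fun l => U (l + 1)) (fun l => ?_) h' l (by omega)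
      have := hU (l + 1)
      rwa [Nat.add_sub_add_right] at this

/-- index set of the monomial basis -/
abbrev Idx (m : ℕ) : Type := Σ l : Fin m, Fin (b c (m - l))

/-- the polynomial with the given coefficients -/
noncomputable def toU {m : ℕ} (e : Idx c m → R) (l : ℕ) : R[X] :=
  if h : l < m then ∑ i : Fin (b c (m - l)), C (e ⟨⟨l, h⟩, i⟩) * X ^ (i : ℕ) else 0

theorem degree_toU {m : ℕ} (e : Idx c m → R) (l : ℕ) : (toU c e l).degree < (b c (m - l) : ℕ) := by
  rw [toU]
  split_ifs with h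
  · exact degree_sum_fin_lt _
  · rw [degree_zero]; exact WithBot.bot_lt_coe _

theorem coeff_toU {m : ℕ} (e : Idx c m → R) (l : Fin m) (i : Fin (b c (m - l))) :
    (toU c e l).coeff i = e ⟨l, i⟩ := by
  rw [toU, dif_pos l.2, finsetSum_coeff, Finset.sum_eq_single i]
  · rw [coeff_C_mul, coeff_X_pow_self, mul_one]
  · intro j _ hj
    rw [coeff_C_mul, coeff_X_pow, if_neg (fun h => hj (Fin.ext h.symm)), mul_zero]
  · intro h; exact absurd (Finset.mem_univ _) h

theorem toU_coeff {m : ℕ} (U : ℕ → R[X]) (hU : ∀ l, (U l).degree < (b c (m - l) : ℕ)) (l : ℕ)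
    (hl : l < m) : toU c (fun p : Idx c m => (U p.1).coeff p.2) l = U l := by
  ext i
  by_cases hi : i < b c (m - l)
  · exact coeff_toU c (fun p : Idx c m => (U p.1).coeff p.2) ⟨l, hl⟩ ⟨i, hi⟩
  · rw [coeff_eq_zero_of_degree_lt (lt_of_lt_of_le (degree_toU c _ l) (by exact_mod_cast not_lt.mp hi)),
      coeff_eq_zero_of_degree_lt (lt_of_lt_of_le (hU l) (by exact_mod_cast not_lt.mp hi))]

/-- the monomials -/
noncomputable def mon (m : ℕ) (p : Idx c m) : R[X][X] := C (X ^ (p.2 : ℕ)) * X ^ (p.1 : ℕ)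

theorem sum_mon {m : ℕ} (e : Idx c m → R) :
    ∑ p, C (C (e p)) * mon c m p = ∑ l ∈ Finset.range m, C (toU c e l) * X ^ l := by
  rw [Fintype.sum_sigma, Finset.sum_range]
  refine Finset.sum_congr rfl fun l _ => ?_
  rw [toU, dif_pos l.2, map_sum, Finset.sum_mul]
  refine Finset.sum_congr rfl fun i _ => ?_
  rw [mon, ← mul_assoc, ← map_mul]

/-- the quotient ring -/
abbrev Qt (m : ℕ) : Type u := R[X][X] ⧸ I c V m

/-- its structure map -/
noncomputable def bet (m : ℕ) : R →+* Qt c V m := (Ideal.Quotient.mk (I c V m)).comp (C.comp C)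

theorem bet_apply (m : ℕ) (r : R) : bet c V m r = Ideal.Quotient.mk (I c V m) (C (C r)) := rfl

theorem sum_bet {m : ℕ} (e : Idx c m → R) :
    ∑ p, bet c V m (e p) * Ideal.Quotient.mk (I c V m) (mon c m p) =
      Ideal.Quotient.mk (I c V m) (∑ l ∈ Finset.range m, C (toU c e l) * X ^ l) := by
  rw [← sum_mon, map_sum]
  refine Finset.sum_congr rfl fun p _ => ?_
  rw [map_mul, bet_apply]

theorem toU_sub {m : ℕ} (e e' : Idx c m → R) (l : ℕ) :
    toU c (e - e') l = toU c e l - toU c e' l := by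
  rw [toU, toU, toU]
  split_ifs with h
  · rw [← Finset.sum_sub_distrib]
    refine Finset.sum_congr rfl fun i _ => ?_
    rw [Pi.sub_apply, map_sub, sub_mul]
  · rw [sub_zero]

theorem bijective_mon (m : ℕ) : Function.Bijective (fun e : Idx c m → R =>
    ∑ p, bet c V m (e p) * Ideal.Quotient.mk (I c V m) (mon c m p)) := by
  constructor
  · intro e e' h
    dsimp only at h
    rw [sum_bet, sum_bet, Ideal.Quotient.eq, ← Finset.sum_sub_distrib] at h
    have h1 : ∑ l ∈ Finset.range m, C (toU c (e - e') l) * X ^ l ∈ I c V m := by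
      convert h using 1
      refine Finset.sum_congr rfl fun l _ => ?_
      rw [toU_sub, map_sub, sub_mul]
    have h2 := red_unique c V m _ (degree_toU c (e - e')) h1
    funext p
    have h3 := coeff_toU c (e - e') p.1 p.2
    rw [h2 _ p.1.2, coeff_zero] at h3
    exact (sub_eq_zero.mp h3.symm)
  · intro z
    obtain ⟨f, rfl⟩ := Ideal.Quotient.mk_surjective z
    obtain ⟨U, hU, hf⟩ := exists_red c V m f
    refine ⟨fun p => (U p.1).coeff p.2, ?_⟩
    dsimp only
    rw [sum_bet, eq_comm, Ideal.Quotient.eq]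
    convert hf using 2
    refine Finset.sum_congr rfl fun l hl => ?_
    rw [toU_coeff c U hU l (Finset.mem_range.mp hl)]

end

end K940.HZFlag
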