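import Groth.Agent.HilbZeta.K940.Flag
import Mathlib.RingTheory.PrincipalIdealDomain
import Mathlib.Algebra.Polynomial.FieldDivision
import Mathlib.LinearAlgebra.FreeModule.Finite.Basic
import Mathlib.LinearAlgebra.Dimension.Constructions
import Mathlib.Algebra.Exact.Basic
import Mathlib.Algebra.Module.Projective

/-!
# Classification of the ideals of `K[x][y]` containing powers of `x` and `y`
-/

set_option autoImplicit false
universe u v w

namespace K940.HZFlag
open Polynomial

section Field
variable {K : Type u} [Field K]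

/-- an ideal of `K[x]` containing a power of `x` is generated by a power of `x`. -/
theorem exists_pow (a : Ideal K[X]) {N : ℕ} (h : (X : K[X]) ^ N ∈ a) :
    ∃ b : ℕ, a = Ideal.span {(X : K[X]) ^ b} := by
  obtain ⟨p, rfl⟩ := (IsPrincipalIdealRing.principal a).principal
  rw [Ideal.submodule_span_eq, Ideal.mem_span_singleton] at h
  obtain ⟨b, _, hb⟩ := (dvd_prime_pow Polynomial.prime_X N).mp h
  exact ⟨b, Ideal.span_singleton_eq_span_singleton.mpr hb⟩

/-- existence: every ideal containing `y^m` and a power of `x` is one of the `I c V m`. -/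
theorem exists_eq (m : ℕ) : ∀ J : Ideal K[X][X], (X : K[X][X]) ^ m ∈ J →
    (∃ N : ℕ, (C X : K[X][X]) ^ N ∈ J) →
    ∃ (c : ℕ → ℕ) (V : ℕ → ℕ → K[X]), (∀ i j, (V i j).degree < (c j : ℕ)) ∧ J = I c V m := by
  induction m with
  | zero =>
    intro J hJ _
    rw [pow_zero] at hJ
    refine ⟨fun _ => 0, fun _ _ => 0, fun i j => ?_, (Ideal.eq_top_iff_one _).mpr hJ⟩
    rw [degree_zero]; exact WithBot.bot_lt_coe _
  | succ m ih =>
    rintro J hJ ⟨N, hN⟩
    -- the ideal `J' = (J : y)`
    let J' : Ideal K[X][X] := Submodule.comap (LinearMap.mulLeft K[X][X] X) J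
    have hJ' : ∀ f, f ∈ J' ↔ X * f ∈ J := fun f => Iff.rfl
    have hle : J ≤ J' := fun f hf => (hJ' f).mpr (J.mul_mem_left _ hf)
    obtain ⟨c, V, hV, hcV⟩ := ih J' ((hJ' _).mpr (by rw [← pow_succ']; exact hJ)) ⟨N, hle hN⟩
    -- reduction modulo `y`
    let a : Ideal K[X] := Ideal.map (Polynomial.constantCoeff (R := K[X])) J
    have ha : ∀ p, p ∈ a ↔ ∃ f ∈ J, f.coeff 0 = p := by
      intro p
      rw [Ideal.mem_map_iff_of_surjective _ Polynomial.constantCoeff_surjective]
      rfl
    obtain ⟨B, hB⟩ := exists_pow a (N := N) ((ha _).mpr ⟨_, hN, by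
      rw [← map_pow, coeff_C_zero]⟩)
    obtain ⟨f, hf, hf0⟩ := (ha (X ^ B)).mp (by rw [hB]; exact Ideal.subset_span rfl)
    -- `b c m ≤ B`
    have hbB : b c m ≤ B := by
      have h1 : f ∈ I c V m := by rw [← hcV]; exact hle hf
      cases m with
      | zero => exact Nat.zero_le _
      | succ m =>
        obtain ⟨p, f', _, hp⟩ := (mem_I_succ' c V).mp h1
        have h0 := congrArg (fun q => q.coeff 0) hp
        simp only [coeff_add, mul_coeff_zero, coeff_C_zero, coeff_X_zero, zero_mul, add_zero] at h0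
        rw [hf0, coeff_zero_g] at h0
        have : (X : K[X]) ^ b c (m + 1) ∣ X ^ B := ⟨p, by rw [h0, mul_comm]⟩
        exact (pow_dvd_pow_iff X_ne_zero not_isUnit_X).mp this
    classical
    -- the remainder
    obtain ⟨k, hk⟩ := Nat.exists_eq_add_of_le hbB
    have hfm : f ∈ I c V m := by rw [← hcV]; exact hle hf
    have h1 : (f - C (X ^ k) * g c V m).coeff 0 = 0 := by
      rw [coeff_sub, coeff_C_mul, coeff_zero_g, hf0, hk, pow_add, mul_comm, sub_self]
    obtain ⟨w, hw⟩ := X_dvd_iff.mpr h1
    have hwm : X * w ∈ I c V m := by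
      rw [← hw]
      exact Ideal.sub_mem _ hfm (Ideal.mul_mem_left _ _ (g_mem c V m))
    -- find `U`
    have hU : ∃ U : ℕ → K[X], (∀ j, (U j).degree < (c j : ℕ)) ∧
        C (X ^ k) * g c V m + ∑ j ∈ Finset.range m, C (U j) * X ^ (m - j) * g c V j ∈ J := by
      cases m with
      | zero =>
        refine ⟨fun _ => 0, fun j => ?_, ?_⟩
        · rw [degree_zero]; exact WithBot.bot_lt_coe _
        · rw [Finset.range_zero, Finset.sum_empty, add_zero]
          have h2 : C (X ^ k) * g c V 0 = f - X * w := by rw [← hw]; exact (sub_sub_cancel _ _).symm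
          rw [h2]
          refine J.sub_mem hf ?_
          rw [zero_add, pow_one] at hJ
          exact J.mul_mem_right _ hJ
      | succ m =>
        obtain ⟨U, hU, hU'⟩ := exists_rep c V m w (mem_of_X_mul_mem c V hwm)
        refine ⟨U, hU, ?_⟩
        rw [sum_shift]
        rw [← hcV, hJ', mul_sub] at hU'
        have h2 : C (X ^ k) * g c V (m + 1) +
            X * ∑ j ∈ Finset.range (m + 1), C (U j) * X ^ (m - j) * g c V j =
            f - (X * w - X * ∑ j ∈ Finset.range (m + 1), C (U j) * X ^ (m - j) * g c V j) := by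
          rw [← hw, sub_sub, sub_sub_cancel]
        rw [h2]
        exact J.sub_mem hf hU'
    obtain ⟨U, hU, hUJ⟩ := hU
    obtain ⟨c₁, hc₁, hc₁m⟩ : ∃ c₁ : ℕ → ℕ, (∀ j, j ≠ m → c₁ j = c j) ∧ c₁ m = k :=
      ⟨fun j => if j = m then k else c j, fun j hj => if_neg hj, if_pos rfl⟩
    obtain ⟨V₁, hV₁, hV₁m, hV₁0⟩ : ∃ V₁ : ℕ → ℕ → K[X], (∀ i, i ≠ m → ∀ j < m, V₁ i j = V i j) ∧
        (∀ j < m, V₁ m j = U j) ∧ (∀ i j, ¬ j < m → V₁ i j = 0) :=
      ⟨fun i j => if j < m then (if i = m then U j else V i j) else 0,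
        fun i hi j hj => by dsimp only; rw [if_pos hj, if_neg hi],
        fun j hj => by dsimp only; rw [if_pos hj, if_pos rfl], fun i j hj => if_neg hj⟩
    have hI : I c V m = I c₁ V₁ m := by
      apply I_congr
      · intro j hj; rw [hc₁ j (by omega)]
      · intro i hi j hj; rw [hV₁ i (by omega) j (by omega)]
    have hg : ∀ j ≤ m, g c₁ V₁ j = g c V j := by
      intro j hj
      apply g_congr
      · intro j' hj'; rw [hc₁ j' (by omega)]
      · intro i hi j' hj'; rw [hV₁ i (by omega) j' (by omega)]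
    have hgs : g c₁ V₁ (m + 1) =
        C (X ^ k) * g c V m + ∑ j ∈ Finset.range m, C (U j) * X ^ (m - j) * g c V j := by
      have hs : ∑ j ∈ Finset.range m, C (V₁ m j) * X ^ (m - j) * g c₁ V₁ j =
          ∑ j ∈ Finset.range m, C (U j) * X ^ (m - j) * g c V j := by
        refine Finset.sum_congr rfl fun j hj => ?_
        have hj := Finset.mem_range.mp hj
        rw [hV₁m j hj, hg j hj.le]
      rw [g_succ, hc₁m, hg m le_rfl, hs]
    have hbm : b c₁ m = b c m := by
      refine Finset.sum_congr rfl fun j hj => ?_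
      have hj := Finset.mem_range.mp hj
      rw [hc₁ j (by omega)]
    refine ⟨c₁, V₁, ?_, ?_⟩
    · intro i j
      by_cases hj : j < m
      · rw [hc₁ j (by omega)]
        by_cases hi : i = m
        · rw [hi, hV₁m j hj]; exact hU j
        · rw [hV₁ i hi j hj]; exact hV i j
      · rw [hV₁0 i j hj, degree_zero]; exact WithBot.bot_lt_coe _
    · apply le_antisymm
      · intro q hq
        have hqa : q.coeff 0 ∈ a := (ha _).mpr ⟨q, hq, rfl⟩
        rw [hB, Ideal.mem_span_singleton] at hqa
        obtain ⟨p, hp⟩ := hqa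
        have h2 : (q - C p * g c₁ V₁ (m + 1)).coeff 0 = 0 := by
          rw [coeff_sub, coeff_C_mul, coeff_zero_g, hp, b_succ, hc₁m, hbm, hk, mul_comm p, sub_self]
        obtain ⟨w', hw'⟩ := X_dvd_iff.mpr h2
        rw [mem_I_succ']
        refine ⟨p, w', ?_, ?_⟩
        · rw [← hI, ← hcV, hJ', ← hw', hgs]
          exact J.sub_mem hq (J.mul_mem_left _ hUJ)
        · exact (sub_eq_iff_eq_add'.mp hw')
      · rw [I_succ, sup_le_iff]
        constructor
        · rw [Ideal.span_le, Set.singleton_subset_iff, hgs]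
          exact hUJ
        · rw [Ideal.span_singleton_mul_le_iff]
          intro z hz
          rw [← hI, ← hcV] at hz
          exact (hJ' z).mp hz

end Field

section Uniq
variable {R : Type u} [CommRing R] [Nontrivial R]

theorem X_pow_dvd_X_pow' {a a' : ℕ} (h : (X : R[X]) ^ a ∣ X ^ a') : a ≤ a' := by
  rw [X_pow_dvd_iff] at h
  by_contra hlt
  have := h a' (by omega)
  rw [coeff_X_pow_self] at this
  exact one_ne_zero this

/-- uniqueness -/
theorem uniq (m : ℕ) : ∀ (c c' : ℕ → ℕ) (V V' : ℕ → ℕ → R[X]),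
    (∀ i j, (V i j).degree < (c j : ℕ)) → (∀ i j, (V' i j).degree < (c' j : ℕ)) →
    I c V m = I c' V' m → (∀ j < m, c j = c' j) ∧ ∀ i < m, ∀ j < i, V i j = V' i j := by
  induction m with
  | zero =>
    intro c c' V V' _ _ _
    exact ⟨fun j hj => by omega, fun i hi => by omega⟩
  | succ m ih =>
    intro c c' V V' hV hV' h
    have hm : I c V m = I c' V' m := by
      ext f
      rw [← X_mul_mem_iff c V, ← X_mul_mem_iff c' V', h]
    obtain ⟨hc, hVV⟩ := ih c c' V V' hV hV' hm
    have hb : b c m = b c' m := Finset.sum_congr rfl fun j hj => hc j (Finset.mem_range.mp hj)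
    -- compare the orders
    have key : ∀ (c c' : ℕ → ℕ) (V V' : ℕ → ℕ → R[X]), I c V (m + 1) ≤ I c' V' (m + 1) →
        b c' (m + 1) ≤ b c (m + 1) := by
      intro c c' V V' h
      obtain ⟨p, f', _, hp⟩ := (mem_I_succ' c' V').mp (h (g_mem c V (m + 1)))
      have h0 := congrArg (fun q => q.coeff 0) hp
      simp only [coeff_add, mul_coeff_zero, coeff_C_zero, coeff_X_zero, zero_mul, add_zero] at h0
      rw [coeff_zero_g, coeff_zero_g] at h0
      exact X_pow_dvd_X_pow' ⟨p, by rw [h0, mul_comm]⟩
    have hbm : b c (m + 1) = b c' (m + 1) := le_antisymm (key _ _ _ _ h.ge) (key _ _ _ _ h.le)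
    have hcm : c m = c' m := by
      rw [b_succ, b_succ, hb] at hbm
      omega
    have hc' : ∀ j < m + 1, c j = c' j := by
      intro j hj
      rcases Nat.lt_or_ge j m with h' | h'
      · exact hc j h'
      · obtain rfl : j = m := by omega
        exact hcm
    refine ⟨hc', ?_⟩
    intro i hi j hj
    rcases Nat.lt_or_ge i m with h' | h'
    · exact hVV i h' j hj
    obtain rfl : i = m := by omega
    cases i with
    | zero => omega
    | succ i =>
      have hgj : ∀ j ≤ i + 1, g c' V' j = g c V j := by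
        intro j hj
        exact (g_congr (fun j' hj' => hc j' (by omega)) (fun i' hi' => hVV i' (by omega))).symm
      have h1 : g c V (i + 1 + 1) - g c' V' (i + 1 + 1) ∈ I c V (i + 1 + 1) :=
        Ideal.sub_mem _ (g_mem c V _) (by rw [h]; exact g_mem c' V' _)
      have h2 : g c V (i + 1 + 1) - g c' V' (i + 1 + 1) =
          ∑ j ∈ Finset.range (i + 1), C (V (i + 1) j - V' (i + 1) j) * X ^ (i + 1 - j) * g c V j := by
        rw [g_succ c V (i + 1), g_succ c' V' (i + 1), ← hcm, hgj (i + 1) le_rfl, add_sub_add_left_eq_sub,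
          ← Finset.sum_sub_distrib]
        refine Finset.sum_congr rfl fun j hj => ?_
        have hj := Finset.mem_range.mp hj
        rw [hgj j (by omega), map_sub, sub_mul, sub_mul]
      classical
      let U : ℕ → R[X] := fun j => if j < i + 1 then V (i + 1) j - V' (i + 1) j else 0
      have hU : ∀ j, (U j).degree < (c j : ℕ) := by
        intro j
        by_cases hj : j < i + 1
        · simp only [U, if_pos hj]
          refine lt_of_le_of_lt (degree_sub_le _ _) (max_lt (hV _ _) ?_)
          rw [hc' j (by omega)]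
          exact hV' _ _
        · simp only [U, if_neg hj, degree_zero]; exact WithBot.bot_lt_coe _
      have h3 : ∑ j ∈ Finset.range (i + 1), C (V (i + 1) j - V' (i + 1) j) * X ^ (i + 1 - j) *
          g c V j = X * ∑ j ∈ Finset.range (i + 1), C (U j) * X ^ (i - j) * g c V j := by
        rw [← sum_shift]
        refine Finset.sum_congr rfl fun j hj => ?_
        have hj := Finset.mem_range.mp hj
        simp only [U, if_pos hj]
      rw [h2, h3, X_mul_mem_iff] at h1
      have h4 := rep_unique c V i U hU h1 j (by omega)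
      simp only [U, if_pos hj] at h4
      exact sub_eq_zero.mp h4

end Uniq

end K940.HZFlag
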