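import Groth.Agent.HilbZeta.K940.FlagFam
import Mathlib.RingTheory.PowerSeries.Basic
import Mathlib.RingTheory.PowerSeries.Trunc
import Mathlib.Algebra.Order.Antidiag.Finsupp

/-!
# The generating function of the strata
-/

set_option autoImplicit false
universe u

namespace K940.HZFlag
open Finset

variable {A : Type u} [CommRing A]

/-- the geometric series `∑ (a t^s)^i` -/
noncomputable def geo (a : A) (s : ℕ) : PowerSeries A :=
  PowerSeries.mk fun e => if s ∣ e then a ^ (e / s) else 0

theorem coeff_geo (a : A) (s e : ℕ) :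
    PowerSeries.coeff e (geo a s) = if s ∣ e then a ^ (e / s) else 0 := PowerSeries.coeff_mk _ _

theorem geo_mul (a : A) {s : ℕ} (hs : 0 < s) :
    geo a s * (1 - PowerSeries.C a * PowerSeries.X ^ s) = 1 := by
  ext e
  rw [mul_sub, mul_one, map_sub, mul_left_comm, PowerSeries.coeff_C_mul,
    PowerSeries.coeff_mul_X_pow', coeff_geo, PowerSeries.coeff_one]
  split_ifs with h1 h2 h3 h3 h2 h3 h3
  · subst h3; omega
  · rw [coeff_geo]
    obtain ⟨q, rfl⟩ := h1
    have hq : q ≠ 0 := by rintro rfl; simp at h3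
    obtain ⟨q, rfl⟩ := Nat.exists_eq_succ_of_ne_zero hq
    have h4 : s * (q + 1) - s = s * q := by rw [mul_add, mul_one, Nat.add_sub_cancel]
    rw [Nat.succ_eq_add_one, h4, if_pos (Dvd.intro _ rfl), Nat.mul_div_cancel_left _ hs,
      Nat.mul_div_cancel_left _ hs, pow_succ']
    exact sub_self _
  · subst h3; simp
  · exfalso
    obtain ⟨q, rfl⟩ := h1
    cases q with
    | zero => simp at h3
    | succ q => exact h2 (by rw [mul_add, mul_one]; omega)
  · subst h3; exact absurd (dvd_zero s) h1
  · rw [coeff_geo, if_neg, mul_zero, sub_zero]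
    intro h4
    have h5 := Nat.dvd_add h4 (dvd_refl s)
    rw [Nat.sub_add_cancel (by assumption)] at h5
    exact h1 h5
  · subst h3; exact absurd (dvd_zero s) h1
  · simp

/-- the weight of a stratum -/
theorem card_Par_Sg {n d : ℕ} (c : Sg n d) :
    Fintype.card (Par (ext0 c.1) n) = ∑ j : Fin n, (n - 1 - j) * (c.1 j : ℕ) := by
  rw [card_Par, Finset.sum_range]
  refine Finset.sum_congr rfl fun j _ => ?_
  rw [ext0_lt c.1 j.2]

theorem sum_Sg (L : A) (n d : ℕ) : ∑ c : Sg n d, L ^ Fintype.card (Par (ext0 c.1) n) =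
    PowerSeries.coeff d (∏ j : Fin n, geo (L ^ (n - 1 - (j : ℕ))) (n - j)) := by
  classical
  rw [PowerSeries.coeff_prod]
  refine Finset.sum_of_injOn
    (fun c : Sg n d => Finsupp.equivFunOnFinite.symm (fun j : Fin n => (n - j) * (c.1 j : ℕ)))
    ?_ ?_ ?_ ?_
  · intro c _ c' _ h
    apply Subtype.ext
    funext j
    have h1 := congrArg (fun l => l j) h
    simp only [Finsupp.equivFunOnFinite_symm_apply_apply] at h1
    exact Fin.ext (Nat.eq_of_mul_eq_mul_left (by have := j.2; omega) h1)
  · intro c _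
    rw [SetLike.mem_coe, mem_finsuppAntidiag]
    refine ⟨?_, Finset.subset_univ _⟩
    simp only [Finsupp.equivFunOnFinite_symm_apply_apply]
    exact c.2
  · intro l hl hl'
    rw [mem_finsuppAntidiag] at hl
    by_contra hne
    apply hl'
    have hdvd : ∀ j : Fin n, (n - j) ∣ l j := by
      intro j
      by_contra hcon
      apply hne
      refine Finset.prod_eq_zero (Finset.mem_univ j) ?_
      rw [coeff_geo, if_neg hcon]
    choose q hq using hdvd
    have hqd : ∀ j, q j < d + 1 := by
      intro j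
      rw [Nat.lt_succ_iff, ← hl.1]
      refine le_trans ?_ (Finset.single_le_sum (f := fun j => l j)
        (fun _ _ => Nat.zero_le _) (Finset.mem_univ j))
      rw [hq j]
      exact Nat.le_mul_of_pos_left _ (by have := j.2; omega)
    refine ⟨⟨fun j => ⟨q j, hqd j⟩, ?_⟩, Finset.mem_coe.mpr (Finset.mem_univ _), ?_⟩
    · refine Eq.trans ?_ hl.1
      exact Finset.sum_congr rfl fun j _ => (hq j).symm
    · ext j
      simp only [Finsupp.equivFunOnFinite_symm_apply_apply]
      exact (hq j).symm
  · intro c _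
    rw [card_Par_Sg, ← Finset.prod_pow_eq_pow_sum]
    refine Finset.prod_congr rfl fun j _ => ?_
    have hj : 0 < n - (j : ℕ) := by have := j.2; omega
    rw [coeff_geo]
    simp only [Finsupp.equivFunOnFinite_symm_apply_apply]
    rw [if_pos (Dvd.intro _ rfl), Nat.mul_div_cancel_left _ hj, ← pow_mul]

theorem mk_sum_mul_prod (L : A) (n : ℕ) :
    PowerSeries.mk (fun d => ∑ c : Sg n d, L ^ Fintype.card (Par (ext0 c.1) n)) *
      (∏ m ∈ Finset.range n, (1 - PowerSeries.C (L ^ m) * PowerSeries.X ^ (m + 1))) = 1 := by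
  have h1 : PowerSeries.mk (fun d => ∑ c : Sg n d, L ^ Fintype.card (Par (ext0 c.1) n)) =
      ∏ j : Fin n, geo (L ^ (n - 1 - (j : ℕ))) (n - j) := by
    ext d
    rw [PowerSeries.coeff_mk, sum_Sg]
  rw [h1, ← Finset.prod_range_reflect, Finset.prod_range, ← Finset.prod_mul_distrib]
  refine Finset.prod_eq_one fun j _ => ?_
  have hj := j.2
  have h2 : n - 1 - (j : ℕ) + 1 = n - j := by omega
  rw [h2]
  exact geo_mul _ (by omega)

/-- truncated version: the coefficients up to `D` matter only. -/
theorem trunc_mul_prod (L : A) (D : ℕ) (F : ℕ → A)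
    (hF : ∀ d ≤ D, F d = ∑ c : Sg D d, L ^ Fintype.card (Par (ext0 c.1) D)) :
    PowerSeries.trunc (D + 1) (PowerSeries.mk F *
      (∏ m ∈ Finset.range D, (1 - PowerSeries.C (L ^ m) * PowerSeries.X ^ (m + 1)))) = 1 := by
  have h1 : PowerSeries.trunc (D + 1) (PowerSeries.mk F) = PowerSeries.trunc (D + 1)
      (PowerSeries.mk (fun d => ∑ c : Sg D d, L ^ Fintype.card (Par (ext0 c.1) D))) := by
    ext m
    rw [PowerSeries.coeff_trunc, PowerSeries.coeff_trunc]
    split_ifs with h
    · rw [PowerSeries.coeff_mk, PowerSeries.coeff_mk, hF m (by omega)]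
    · rfl
  rw [← PowerSeries.trunc_trunc_mul, h1, PowerSeries.trunc_trunc_mul, mk_sum_mul_prod]
  exact PowerSeries.trunc_one D

end K940.HZFlag
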