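import Groth.Agent.HilbZeta.K940.HilbStrata

/-!
# Strata of a punctual Hilbert scheme of a general `X / k`

`X` is any scheme over the field `k`, the strata are given by elements of the Hilbert functor over affine
`k`-schemes `Spec R i`.
-/

set_option autoImplicit false
set_option backward.isDefEq.respectTransparency false
universe u

open CategoryTheory CategoryTheory.Limits AlgebraicGeometry TopologicalSpace

namespace K940.HilbStrata

open Groth.Agent.Picfga.HilbPull Groth.Agent.Picfga.HilbTriple Groth.Agent.Picfga.HilbRep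

variable {k : Type u} [Field k] {X : Scheme.{u}} {f : X ⟶ Spec (CommRingCat.of k)} {d : ℕ}

/-- a `k`-algebra map as a morphism of `k`-schemes. -/
noncomputable abbrev TRmap {R R' : Type u} [CommRing R] [CommRing R'] {κ : k →+* R} {κ' : k →+* R'}
    (φ : R →+* R') (h : φ.comp κ = κ') : TR κ' ⟶ TR κ :=
  Over.homMk (Spec.map (CommRingCat.ofHom φ)) (by
    subst h
    change Spec.map _ ≫ Spec.map _ = Spec.map _
    rw [← Spec.map_comp, ← CommRingCat.ofHom_comp])

/-- the family over a reduced `Spec R` supported at `x₀` defines a morphism `Spec R ⟶ HP`; its composites with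
field-valued points are described by the functor. -/
theorem exists_toHP {x₀ : X} {H : Over (Spec (CommRingCat.of k))}
    {Z : HilbD.Obj f d H} (hZ : HilbD.IsUniversal f d H Z) {HP : Scheme.{u}} {ι : HP ⟶ H.left}
    [IsClosedImmersion ι]
    (hι : Set.range ι = {h | ∀ z : Z.1.subscheme,
      (Z.1.subschemeι ≫ pullback.snd f H.hom) z = h →
        (Z.1.subschemeι ≫ pullback.fst f H.hom) z = x₀})
    {R : Type u} [CommRing R] [_root_.IsReduced R] (κ : k →+* R) (x : HilbD.Obj f d (TR κ))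
    (hs : ∀ z, pr x z = x₀) :
    ∃ l : Spec (CommRingCat.of R) ⟶ HP, l ≫ ι ≫ H.hom = Spec.map (CommRingCat.ofHom κ) ∧
      (∃ g : TR κ ⟶ H, g.left = l ≫ ι ∧ pullObj f g Z = x) ∧
      ∀ (K : Type u) [Field K] (κ' : k →+* K) (y : TR κ' ⟶ H) (y' : Spec (CommRingCat.of K) ⟶ HP)
        (_ : y' ≫ ι = y.left) (φ : R →+* K),
        Spec.map (CommRingCat.ofHom φ) ≫ l = y' ↔
          ∃ h : φ.comp κ = κ', pullObj f (TRmap φ h) x = pullObj f y Z := by
  obtain ⟨g, hg, -⟩ := hZ (TR κ) x
  have hg' : pullObj f g Z = x := Subtype.ext hg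
  have hrange : Set.range g.left ⊆ Set.range ι := by
    rintro _ ⟨t, rfl⟩
    rw [hι]
    have h9 : ∀ z, pr (pullObj f g Z) z = x₀ := by
      rw [hg']
      exact hs
    exact (supp_pull (f := f) x₀ g Z t).mp fun z _ => h9 z
  obtain ⟨l, hl⟩ : ∃ l : Spec (CommRingCat.of R) ⟶ HP, l ≫ ι = g.left := by
    have : _root_.IsReduced (CommRingCat.of R) := inferInstanceAs (_root_.IsReduced R)
    exact exists_lift_closed ι (T := Spec (CommRingCat.of R)) g.left hrange
  have hlH : l ≫ ι ≫ H.hom = Spec.map (CommRingCat.ofHom κ) := by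
    rw [← Category.assoc, hl]
    exact Over.w g
  refine ⟨l, hlH, ⟨g, hl.symm, hg'⟩, ?_⟩
  intro K _ κ' y y' hy φ
  have hyH : y' ≫ ι ≫ H.hom = Spec.map (CommRingCat.ofHom κ') := by
    rw [← Category.assoc, hy]
    exact Over.w y
  constructor
  · intro h
    have h1 : Spec.map (CommRingCat.ofHom φ) ≫ Spec.map (CommRingCat.ofHom κ) =
        Spec.map (CommRingCat.ofHom κ') := by
      rw [← hlH, ← hyH, ← h, Category.assoc]
    have h2 : φ.comp κ = κ' := by
      rw [← Spec.map_comp] at h1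
      exact congrArg CommRingCat.Hom.hom (Spec.map_injective h1)
    refine ⟨h2, ?_⟩
    rw [← hg', ← pullObj_comp]
    congr 1
    ext1
    change Spec.map (CommRingCat.ofHom φ) ≫ g.left = y.left
    rw [← hl, ← Category.assoc, h, hy]
  · rintro ⟨h2, h3⟩
    rw [← hg', ← pullObj_comp] at h3
    have h5 := hom_ext_of_isUniversal hZ (congrArg Subtype.val h3)
    have h6 : Spec.map (CommRingCat.ofHom φ) ≫ g.left = y.left := congrArg (fun e => e.left) h5
    rw [← hl, ← hy, ← Category.assoc] at h6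
    exact (cancel_mono ι).mp h6

/-- **Field-valued points of `HP`** are the elements of the Hilbert functor supported at `x₀`. -/
theorem exists_pt_HP {x₀ : X} {H : Over (Spec (CommRingCat.of k))}
    {Z : HilbD.Obj f d H} {HP : Scheme.{u}} {ι : HP ⟶ H.left}
    (hι : Set.range ι = {h | ∀ z : Z.1.subscheme,
      (Z.1.subschemeι ≫ pullback.snd f H.hom) z = h →
        (Z.1.subschemeι ≫ pullback.fst f H.hom) z = x₀})
    {K : Type u} [Field K] (y' : Spec (CommRingCat.of K) ⟶ HP) :
    ∃ (κ' : k →+* K) (y : TR κ' ⟶ H), y' ≫ ι = y.left ∧ ∀ z, pr (pullObj f y Z) z = x₀ := by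
  obtain ⟨κ', hκ'⟩ : ∃ κ' : k →+* K, Spec.map (CommRingCat.ofHom κ') = y' ≫ ι ≫ H.hom :=
    ⟨(Spec.preimage (y' ≫ ι ≫ H.hom)).hom, Spec.map_preimage _⟩
  let y : TR κ' ⟶ H := Over.homMk (y' ≫ ι) (by rw [Category.assoc]; exact hκ'.symm)
  refine ⟨κ', y, rfl, fun z => ?_⟩
  have h1 : ι (y' (sm (pullObj f y Z) z)) ∈ Set.range ι := ⟨_, rfl⟩
  rw [hι] at h1
  exact (supp_pull (f := f) x₀ y Z (sm (pullObj f y Z) z)).mpr h1 z rfl

/-- **The class of a punctual Hilbert scheme from finitely many affine strata**, for general `X`. The strata are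
elements `x i` of the Hilbert functor over `Spec (R i)`, supported at `x₀`, and every element over a
field supported at `x₀` is the pull back of exactly one `x i` along exactly one map. -/
theorem cl_eq_sum_obj (x₀ : X) (H : Over (Spec (CommRingCat.of k)))
    (Z : HilbD.Obj f d H) (hZ : HilbD.IsUniversal f d H Z)
    [LocallyOfFiniteType H.hom] [QuasiCompact H.hom] (HP : Scheme.{u}) (ι : HP ⟶ H.left)
    [IsClosedImmersion ι]
    (hι : Set.range ι = {h | ∀ z : Z.1.subscheme,
      (Z.1.subschemeι ≫ pullback.snd f H.hom) z = h →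
        (Z.1.subschemeι ≫ pullback.fst f H.hom) z = x₀})
    {σ : Type*} [Fintype σ] (R : σ → Type u) [∀ i, CommRing (R i)] [∀ i, _root_.IsReduced (R i)]
    (κ : ∀ i, k →+* R i)
    [∀ i, LocallyOfFiniteType (Spec.map (CommRingCat.ofHom (κ i)))]
    (x : ∀ i, HilbD.Obj f d (TR (κ i))) (hs : ∀ i z, pr (x i) z = x₀)
    (hex : ∀ (K : Type u) [Field K] (κ' : k →+* K) (y : HilbD.Obj f d (TR κ')),
      (∀ z, pr y z = x₀) → ∃! q : Σ i, (R i →+* K), ∃ h : q.2.comp (κ q.1) = κ',
        pullObj f (TRmap q.2 h) (x q.1) = y) :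
    K0Var.cl (ι ≫ H.hom) = ∑ i, K0Var.cl (Spec.map (CommRingCat.ofHom (κ i))) := by
  choose l hlH _ hl using fun i => exists_toHP hZ hι (κ i) (x i) (hs i)
  have hHP : NoetherianSpace HP := K928.Fibration.noetherianSpace_of_field (ι ≫ H.hom)
  have hlft : ∀ i, LocallyOfFiniteType (l i) := fun i => by
    have : LocallyOfFiniteType (l i ≫ ι ≫ H.hom) := by rw [hlH]; infer_instance
    exact locallyOfFiniteType_of_comp (l i) (ι ≫ H.hom)
  have hlqc : ∀ i, QuasiCompact (l i) := fun i => by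
    have : NoetherianSpace (Spec (CommRingCat.of (R i))) :=
      K928.Fibration.noetherianSpace_of_field (Spec.map (CommRingCat.ofHom (κ i)))
    exact ⟨fun V _ _ => NoetherianSpace.isCompact _⟩
  have hlsep : ∀ i, IsSeparated (l i) := fun i => by
    have : IsSeparated (l i ≫ ι ≫ H.hom) := by rw [hlH]; infer_instance
    exact IsSeparated.of_comp (l i) (ι ≫ H.hom)
  rw [K0Bij.cl_eq_sum_of_points (ι ≫ H.hom) (fun i => Spec (CommRingCat.of (R i))) l]
  · refine Finset.sum_congr rfl fun i _ => ?_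
    exact K0Var.cl_congr _ _ (Iso.refl _) (by
      rw [Iso.refl_hom, Category.id_comp]; exact (hlH i).symm)
  intro K _ y'
  obtain ⟨κ', y, hy, hsupp⟩ := exists_pt_HP hι y'
  obtain ⟨⟨i, φ⟩, hq, huniq⟩ := hex K κ' (pullObj f y Z) hsupp
  refine ⟨⟨i, Spec.map (CommRingCat.ofHom φ)⟩, (hl i K κ' y y' hy φ).mpr hq, ?_⟩
  rintro ⟨j, z⟩ hz
  obtain ⟨φ', rfl⟩ : ∃ φ' : R j →+* K, Spec.map (CommRingCat.ofHom φ') = z :=
    ⟨(Spec.preimage z).hom, Spec.map_preimage _⟩
  have h7 := huniq ⟨j, φ'⟩ ((hl j K κ' y y' hy φ').mp hz)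
  cases h7
  rfl

end K940.HilbStrata
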