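import Groth.Agent.HilbZeta.K940.FlagFam
import Mathlib.FieldTheory.Minpoly.Field
import Mathlib.FieldTheory.Minpoly.Finite

/-!
# A nilpotent element of an algebra of dimension `d` has `d`-th power zero
-/

set_option autoImplicit false
universe u v

namespace K940.HZFlag
open Polynomial

theorem pow_eq_zero_of_bij {K : Type u} [Field K] {Q : Type v} [CommRing Q] (β : K →+* Q) {d : ℕ}
    (v : Fin d → Q) (h : Function.Bijective (fun b : Fin d → K => ∑ i, β (b i) * v i))
    (y : Q) (hy : IsNilpotent y) : y ^ d = 0 := by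
  let _ := β.toAlgebra
  obtain ⟨h1, h2⟩ := finrank_of_bij (K := K) v h
  rw [Fintype.card_fin] at h1
  obtain ⟨N, hN⟩ := hy
  have h3 : minpoly K y ∣ X ^ N := minpoly.dvd K y (by rw [map_pow, aeval_X, hN])
  obtain ⟨i, _, hi⟩ := (dvd_prime_pow Polynomial.prime_X N).mp h3
  have h4 : minpoly K y = X ^ i :=
    eq_of_monic_of_associated (minpoly.monic (Algebra.IsIntegral.isIntegral y)) (monic_X_pow i) hi
  have h5 : i ≤ d := by
    have h6 := minpoly.natDegree_le (A := K) y
    rwa [h4, natDegree_X_pow, h1] at h6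
  have h7 : y ^ i = 0 := by
    have h8 := minpoly.aeval K y
    rwa [h4, map_pow, aeval_X] at h8
  exact pow_eq_zero_of_le h5 h7

end K940.HZFlag
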